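import Cfsg.Agent.Lib.Recog.ReeType.Centralizers
import Cfsg.Agent.Lib.Recog.JankoThompson.Ward.Bound
import Cfsg.Agent.Lib.Recog.JankoThompson.Ward.Ree
import Cfsg.Agent.Lib.LocalEven.GoldS.CharFinal

/-!
Owner: helper9. Groups of Ree type (given by the centraliser of an involution): every odd prime divisor of the order
is the order of an element inverted by an involution, and some element of order three is centralised by no
involution.
-/

set_option autoImplicit false
set_option linter.all false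

namespace CfsgLib.Recog.ReeType

open Subgroup CfsgLib.Recog.JankoThompson

universe u v

variable {G : Type u} [Group G] [Finite G] {F : Type v} [Field F] [Fintype F]

namespace Setup

variable (S : Setup G F)

theorem cDeg : S.CDeg := fun χ j hj h0 =>
  letI := Fintype.ofFinite (Cfsg.IrrCharacter G)
  S.c.colA_degree S.T S.hq S.q_mod S.hcard χ hj h0

include S in
/-- every odd prime `r ≠ 3` dividing `|G|` has a real element of order `r` -/
theorem exists_real {r : ℕ} (hr : r.Prime) (r2 : r ≠ 2) (r3 : r ≠ 3) (hd : r ∣ Nat.card G) :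
    ∃ z s : G, orderOf z = r ∧ orderOf s = 2 ∧ s * z * s⁻¹ = z⁻¹ := by
  haveI : Fact r.Prime := ⟨hr⟩
  have conv : ∀ {A : Subgroup (P2 F)}, r ∣ Nat.card A → (∃ i : P2 F, orderOf i = 2 ∧ ∀ x ∈ A, i * x * i⁻¹ = x⁻¹) →
      ∃ z s : G, orderOf z = r ∧ orderOf s = 2 ∧ s * z * s⁻¹ = z⁻¹ := fun {A} hA ⟨i, hi, hinv⟩ => by
    obtain ⟨x, hx⟩ := exists_prime_orderOf_dvd_card' (G := A) r hA
    exact ⟨S.c.ι x, S.c.ι i, by rw [S.c.orderOf_ι, orderOf_coe, hx], by rw [S.c.orderOf_ι]; exact hi,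
      by rw [← map_inv, ← map_mul, ← map_mul, hinv _ x.2, map_inv]⟩
  rcases S.prime_cases hr r2 r3 hd with hru | ⟨he, -⟩ | ⟨hf, -⟩
  · obtain ⟨z, hz⟩ := exists_prime_orderOf_dvd_card' (G := G) r hd
    obtain ⟨s, -, -, -, -, hs, hinv, -⟩ := S.good_structure S.cDeg hr hru hz
    exact ⟨z, s, hz, hs, hinv⟩
  · exact conv (S.T.card_R.symm ▸ he) S.T.inverter_R
  · exact conv (S.T.card_T.symm ▸ hf) S.T.inverter_T

end Setup

theorem exists_setup (d : CfsgLib.LocalEven.GoldS.Ctx G F) : Nonempty (Setup G F) := by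
  classical
  haveI := d.simp
  have hab : ∀ P : Sylow 2 G, ∀ a b : P, a * b = b * a := fun P a b =>
    (d.sylow_comm P).is_comm.comm a b
  obtain ⟨e⟩ := ree_cent_equiv d
  have hbig := d.hbig
  obtain ⟨c⟩ := JankoThompson.exists_ctx hab d.ht e (Or.inl d.hq) (by omega)
  obtain ⟨p, ⟨T⟩⟩ := nonempty_tori c
  let _ := Fintype.ofFinite G
  let _ := Fintype.ofFinite (Cfsg.IrrCharacter G)
  obtain ⟨L, J, _, _, K, hKq, hKN⟩ := c.exists_cols T
  obtain ⟨m, hm, hq3, hN⟩ := Cfsg.Agent.S0343.conclusion_nat K hKq hKN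
  refine ⟨⟨c, p, T, m, hm, hq3, ?_⟩⟩
  show Nat.card G = Fintype.card F ^ 3 * (Fintype.card F ^ 3 + 1) * (Fintype.card F - 1)
  rw [hq3]
  exact hN

/-- in a group of Ree type every odd prime divisor of the order is the order of an element inverted by an
involution -/
theorem exists_real [CharP F 3] (d : CfsgLib.LocalEven.GoldS.Ctx G F) {r : ℕ} (hr : r.Prime) (r2 : r ≠ 2)
    (hd : r ∣ Nat.card G) : ∃ z s : G, orderOf z = r ∧ orderOf s = 2 ∧ s * z * s⁻¹ = z⁻¹ := by
  by_cases r3 : r = 3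
  · by_contra h
    push Not at h
    exact d.exists_real_three fun s y hs hy he => h y s (r3 ▸ hy) hs he
  · obtain ⟨S⟩ := exists_setup d
    exact S.exists_real hr r2 r3 hd

/-- in a group of Ree type some real element of order three is centralised by no involution -/
theorem exists_real_three_no_invol [CharP F 3] (d : CfsgLib.LocalEven.GoldS.Ctx G F) :
    ∃ y : G, orderOf y = 3 ∧ IsConj y y⁻¹ ∧ ∀ a : G, orderOf a = 2 → y * a ≠ a * y := by
  obtain ⟨S⟩ := exists_setup d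
  haveI := d.simp
  obtain ⟨y, s, hy, hs, hinv⟩ : ∃ y s : G, orderOf y = 3 ∧ orderOf s = 2 ∧ s * y * s⁻¹ = y⁻¹ := by
    by_contra h
    push Not at h
    exact d.exists_real_three fun s y hs hy he => h y s hy hs he
  refine ⟨y, hy, isConj_iff.2 ⟨s, hinv⟩, fun a ha hya => ?_⟩
  have hy3 : IsThree y := ⟨1, by rw [hy, pow_one]⟩
  have hy1 : y ≠ 1 := fun e => by rw [e, orderOf_one] at hy; omega
  -- `C(y)` has Sylow 2-subgroup `⟨a⟩`, so its involutions are conjugate in `C(y)`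
  set C := centralizer ({y} : Set G) with hCdef
  have hmem : ∀ x, x ∈ C ↔ x * y = y * x := fun x => mem_centralizer_singleton_iff
  set b := s * a * s⁻¹ with hb
  have hbC : b ∈ C := by
    rw [hmem, hb]
    have h1 : Commute a y⁻¹ := (show Commute a y from hya.symm).inv_right
    have h2 : y = s * y⁻¹ * s⁻¹ := by rw [show s * y⁻¹ * s⁻¹ = (s * y * s⁻¹)⁻¹ by group, hinv, inv_inv]
    calc s * a * s⁻¹ * y = s * a * s⁻¹ * (s * y⁻¹ * s⁻¹) := by rw [← h2]
      _ = s * (a * y⁻¹) * s⁻¹ := by group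
      _ = s * y⁻¹ * s⁻¹ * (s * a * s⁻¹) := by rw [h1.eq]; group
      _ = _ := by rw [← h2]
  haveI : Fact (Nat.Prime 2) := ⟨Nat.prime_two⟩
  have hb2 : orderOf b = 2 := by rw [hb, ← MulAut.conj_apply, MulEquiv.orderOf_eq]; exact ha
  have hsyl : ∀ (P : Sylow 2 C) (x x' : C), x ∈ (P : Subgroup C) → x' ∈ (P : Subgroup C) →
      orderOf x = 2 → orderOf x' = 2 → x = x' := by
    intro P x x' hx hx' h h'
    by_contra hne
    obtain ⟨Q, hQ⟩ := (P.isPGroup'.map C.subtype).exists_le_sylow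
    have hc := (d.sylow_comm Q).is_comm.comm ⟨(x : G), hQ ⟨x, hx, rfl⟩⟩ ⟨(x' : G), hQ ⟨x', hx', rfl⟩⟩
    exact S.no_invol hy3 hy1 ((orderOf_coe x).trans h) ((orderOf_coe x').trans h') (congrArg Subtype.val hc)
      (fun e => hne (Subtype.ext e.symm)) ((hmem _).1 x.2).symm ((hmem _).1 x'.2).symm
  obtain ⟨P, hP⟩ := (IsPGroup.of_card (p := 2) (n := 1) (by rw [Nat.card_zpowers, pow_one, ← orderOf_coe]; exact ha) :
    IsPGroup 2 (zpowers (⟨a, (hmem a).2 hya.symm⟩ : C))).exists_le_sylow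
  obtain ⟨Q, hQ⟩ := (IsPGroup.of_card (p := 2) (n := 1) (by rw [Nat.card_zpowers, pow_one, ← orderOf_coe]; exact hb2) :
    IsPGroup 2 (zpowers (⟨b, hbC⟩ : C))).exists_le_sylow
  obtain ⟨g, hg⟩ := MulAction.exists_smul_eq C P Q
  have hga : g * ⟨a, (hmem a).2 hya.symm⟩ * g⁻¹ ∈ (Q : Subgroup C) := by
    rw [← hg, Sylow.coe_subgroup_smul]
    exact Subgroup.smul_mem_pointwise_smul _ _ _ (hP (mem_zpowers _))
  have heq := congrArg Subtype.val (hsyl Q _ ⟨b, hbC⟩ hga (hQ (mem_zpowers _))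
    (by rw [← MulAut.conj_apply, MulEquiv.orderOf_eq, ← orderOf_coe]; exact ha) (by rw [← orderOf_coe]; exact hb2))
  change (g : G) * a * (g : G)⁻¹ = b at heq
  -- an element of `C(a)` inverting `y`
  set x := (g : G)⁻¹ * s with hx
  have hxa : x * a = a * x := by
    refine mul_inv_eq_iff_eq_mul.1 ?_
    rw [hx, show (g : G)⁻¹ * s * a * ((g : G)⁻¹ * s)⁻¹ = (g : G)⁻¹ * (s * a * s⁻¹) * g by group, ← hb, ← heq]
    group
  have hxy : x * y * x⁻¹ = y⁻¹ := by
    rw [hx, show (g : G)⁻¹ * s * y * ((g : G)⁻¹ * s)⁻¹ = (g : G)⁻¹ * (s * y * s⁻¹) * g by group, hinv]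
    have : Commute (g : G) y⁻¹ := (show Commute (g : G) y from (hmem _).1 g.2).inv_right
    rw [mul_assoc, ← this.eq, inv_mul_cancel_left]
  -- its 2-part
  obtain ⟨i, j, hj, hord⟩ := Nat.exists_eq_pow_mul_and_not_dvd (orderOf_pos x).ne' 2 (by norm_num)
  set k := x ^ j with hk
  have hk2 : k * k = 1 := S.c.two_sq k ⟨i, by rw [hk, ← pow_mul, mul_comm, ← hord, pow_orderOf_eq_one]⟩
  have hky : ∀ n : ℕ, x ^ n * y * (x ^ n)⁻¹ = if Even n then y else y⁻¹ := by
    intro n
    induction n with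
    | zero => simp
    | succ n ih =>
      rw [pow_succ', show x * x ^ n * y * (x * x ^ n)⁻¹ = x * (x ^ n * y * (x ^ n)⁻¹) * x⁻¹ by group, ih]
      rcases Nat.even_or_odd n with hn | hn
      · rw [if_pos hn, if_neg (by simpa [Nat.even_add_one] using hn), hxy]
      · rw [if_neg (Nat.not_even_iff_odd.2 hn), if_pos hn.add_one,
          show x * y⁻¹ * x⁻¹ = (x * y * x⁻¹)⁻¹ by group, hxy, inv_inv]
  refine S.not_inverted hy3 hy1 ha ((show Commute x a from hxa).pow_left j).eq.symm hk2 hya ?_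
  rw [hky, if_neg (by rw [even_iff_two_dvd]; exact hj)]

/-- in a group of Ree type some element of order three is centralised by no involution -/
theorem exists_three_no_invol [CharP F 3] (d : CfsgLib.LocalEven.GoldS.Ctx G F) :
    ∃ y : G, orderOf y = 3 ∧ ∀ a : G, orderOf a = 2 → y * a ≠ a * y := by
  obtain ⟨y, hy, -, h⟩ := exists_real_three_no_invol d
  exact ⟨y, hy, h⟩

end CfsgLib.Recog.ReeType
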