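import Cfsg.Agent.Lib.Recog.ReeType.Setup
import Cfsg.Agent.Lib.Char.DefectZero
import Cfsg.Agent.Lib.Char.Brauer

/-!
Owner: helper9. Groups of Ree type: an element `z` of order divisible by a prime `r` dividing `q ^ 2 - q + 1` is
inverted by exactly `q + 1 ± 3 θ` involutions (`q = 3 θ ^ 2`, the sign given by `r ∣ q + 1 ± 3 θ`): characters of
defect zero vanish on `z`, and the columns of `A` and `τ` are orthogonal to that of `z`.
-/

set_option autoImplicit false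
set_option linter.all false
set_option maxHeartbeats 1600000

namespace CfsgLib.Recog.ReeType

open Subgroup CfsgLib.Recog.JankoThompson CfsgLib.Char
open scoped ComplexConjugate

universe u v

theorem root_cases {q θ σ uu A B : ℤ} (hσ : σ * σ = 1) (hq : q = 3 * θ ^ 2) (huu : uu = q ^ 2 - q + 1)
    (hS : A + B = q * (q - 1)) (hP : 12 * (A * B) = -(q * (q - 1) ^ 2 * uu)) :
    2 * A = (q - 1) * θ * σ * (q + 1 + 3 * θ * σ) ∨ 2 * A = -((q - 1) * θ * σ * (q + 1 - 3 * θ * σ)) := by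
  subst hq huu
  have h : 3 * ((2 * A - (3 * θ ^ 2 - 1) * θ * σ * (3 * θ ^ 2 + 1 + 3 * θ * σ)) *
      (2 * A + (3 * θ ^ 2 - 1) * θ * σ * (3 * θ ^ 2 + 1 - 3 * θ * σ))) = 0 := by
    linear_combination 12 * A * hS - hP + 3 * (-12 * A * θ ^ 2 * (3 * θ ^ 2 - 1) -
      ((3 * θ ^ 2 - 1) * θ) ^ 2 * ((3 * θ ^ 2 + 1) ^ 2 - 9 * θ ^ 2 * (σ * σ + 1))) * hσ
  rcases mul_eq_zero.1 ((mul_eq_zero.1 h).resolve_left (by norm_num)) with e | e
  · exact Or.inl (by linarith)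
  · exact Or.inr (by linarith)

variable {G : Type u} [Group G] [Finite G] {Fq : Type v} [Field Fq] [Fintype Fq]

namespace Setup

variable (S : Setup G Fq)

/-- `q + 1 + 3 θ σ`, the orders of the two cyclic Hall subgroups for `σ = ± 1` -/
def uS (σ : ℤ) : ℤ := S.q + 1 + 3 * S.θ * σ

theorem uS_mul {σ : ℤ} (hσ : σ * σ = 1) : S.uS σ * S.uS (-σ) = S.uu := by
  have hq : (S.q : ℤ) = 3 * (S.θ : ℤ) ^ 2 := by exact_mod_cast S.q_theta
  rw [S.uu_int, uS, uS]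
  linear_combination (-9 * (S.θ : ℤ) ^ 2) * hσ + 3 * hq

theorem not_both {r : ℕ} (hr : r.Prime) (hru : r ∣ S.uu) {σ : ℤ} (hσ : σ = 1 ∨ σ = -1)
    (h1 : (r : ℤ) ∣ S.uS σ) (h2 : (r : ℤ) ∣ S.uS (-σ)) : False := by
  obtain ⟨r2, r3, -, -, -, -⟩ := S.r_facts hr hru
  have h : (r : ℤ) ∣ ((6 * 3 ^ S.m : ℕ) : ℤ) := by
    have h' := dvd_sub h1 h2
    rw [uS, uS] at h'
    have e : S.θ = 3 ^ S.m := rfl
    rcases hσ with rfl | rfl
    · refine h'.trans (dvd_of_eq ?_); rw [e]; push_cast; ring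
    · refine dvd_neg.1 (h'.trans (dvd_of_eq ?_)); rw [e]; push_cast; ring
  rw [Int.natCast_dvd_natCast] at h
  rcases (Nat.Prime.dvd_mul hr).1 h with h | h
  · rcases (Nat.Prime.dvd_mul hr).1 (show r ∣ 2 * 3 from h) with h | h
    exacts [r2 ((Nat.prime_dvd_prime_iff_eq hr Nat.prime_two).1 h), r3 ((Nat.prime_dvd_prime_iff_eq hr Nat.prime_three).1 h)]
  · exact r3 ((Nat.prime_dvd_prime_iff_eq hr Nat.prime_three).1 (hr.dvd_of_dvd_pow h))

theorem exists_sigma {r : ℕ} (hr : r.Prime) (hru : r ∣ S.uu) :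
    ∃ σ : ℤ, (σ = 1 ∨ σ = -1) ∧ (r : ℤ) ∣ S.uS σ ∧ ¬ (r : ℤ) ∣ S.uS (-σ) := by
  have h : (r : ℤ) ∣ S.uS 1 * S.uS (-1) := by rw [S.uS_mul (σ := 1) (by norm_num)]; exact_mod_cast hru
  rcases (Nat.prime_iff_prime_int.1 hr).dvd_or_dvd h with h1 | h1
  · exact ⟨1, Or.inl rfl, h1, fun h2 => S.not_both hr hru (Or.inl rfl) h1 h2⟩
  · exact ⟨-1, Or.inr rfl, h1, fun h2 => S.not_both hr hru (Or.inr rfl) h1 h2⟩

/-- the degree of the constituents of the columns of the torus `T` is `q ^ 3 + 1` -/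
def CDeg : Prop :=
  ∀ [Fintype G] [Fintype S.T.R] [Fintype S.T.T] (χ : Cfsg.IrrCharacter G) (j : S.T.T →* ℂˣ),
    j ≠ 1 → S.c.colA S.T χ j ≠ 0 → (χ : G → ℂ) 1 = (S.c.q : ℂ) ^ 3 + 1

/-- a power of a prime divisor of `q ^ 2 - q + 1` dividing `|G|` divides `q ^ 2 - q + 1` -/
theorem pow_dvd_uu {r n : ℕ} (hr : r.Prime) (hru : r ∣ S.uu) (hn : r ^ n ∣ Nat.card G) : r ^ n ∣ S.uu := by
  obtain ⟨-, -, rq, rm, rp, -⟩ := S.r_facts hr hru
  rw [S.card_eq] at hn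
  refine (Nat.Coprime.dvd_of_dvd_mul_left (Nat.Coprime.pow_left n ?_) hn)
  exact ((Nat.Coprime.pow_right 3 (hr.coprime_iff_not_dvd.2 rq)).mul_right (hr.coprime_iff_not_dvd.2 rm)).mul_right
    (hr.coprime_iff_not_dvd.2 rp)

theorem vanish {r n : ℕ} (hr : r.Prime) (hn : r ^ n ∣ Nat.card G) (hn' : ¬ r ^ (n + 1) ∣ Nat.card G)
    {χ : Cfsg.IrrCharacter G} {d : ℤ} (hd : (d : ℂ) = (χ : G → ℂ) 1) (hdvd : (r : ℤ) ^ n ∣ d) {z : G}
    (hz : r ∣ orderOf z) : (χ : G → ℂ) z = 0 := by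
  haveI : Fintype G := Fintype.ofFinite G
  obtain ⟨k, ρ, hρ, he⟩ := χ.2
  haveI := hρ
  rw [← he, Representation.char_one] at hd
  have h2 : (Module.finrank ℂ (Fin k → ℂ) : ℤ) = d := by exact_mod_cast hd.symm
  rw [← he]
  refine CfsgLib.Char.character_eq_zero_of_defect_zero
    (fun θ hθ hE => CfsgLib.Brauer.isGeneralizedCharacter_of_elementary hθ hE) ρ hr hn hn' ?_ hz
  rw [← h2] at hdvd
  exact_mod_cast hdvd

theorem orth_Ct [Fintype (Cfsg.IrrCharacter G)] {z g : G} (hz : S.Good z)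
    (hg : g * S.c.t = S.c.t * g) : ∑ χ : Cfsg.IrrCharacter G, (χ : G → ℂ) g * (χ : G → ℂ) z = 0 := by
  classical
  have hz' : S.Good z⁻¹ := by
    obtain ⟨r, h1, h2, h3⟩ := hz
    exact ⟨r, h1, h2, by rwa [orderOf_inv]⟩
  have h := Char.column_orthogonality g z⁻¹
  rw [if_neg (Good.not_isConj S hz' hg)] at h
  refine Eq.trans (Finset.sum_congr rfl fun χ _ => ?_) h
  rw [IsIrr.map_inv χ.2, Complex.conj_conj]

theorem orth_colA [Fintype (Cfsg.IrrCharacter G)] [Fintype S.T.R] [Fintype S.T.T] {z : G}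
    (hz : S.Good z) (j : S.T.T →* ℂˣ) :
    ∑ χ : Cfsg.IrrCharacter G, S.c.colA S.T χ j * (χ : G → ℂ) z = 0 := by
  have hk : ∀ k : P2 Fq, S.c.t * S.c.ι k * S.c.t = S.c.t * (S.c.t * S.c.ι k) := fun k => by
    rw [mul_assoc, S.c.t_ι]
  simp only [JankoThompson.Ctx.colA, JankoThompson.Ctx.vec, add_mul, Finset.sum_mul, mul_assoc, Finset.sum_add_distrib,
    ← Finset.mul_sum, S.orth_Ct hz rfl, S.orth_Ct hz (hk _)]
  rw [Finset.sum_comm]
  simp only [← Finset.mul_sum, S.orth_Ct hz (hk _), mul_zero, Finset.sum_const_zero, add_zero, zero_add]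
  rw [Finset.sum_comm]
  simp only [← Finset.mul_sum, S.orth_Ct hz (hk _), mul_zero, Finset.sum_const_zero, add_zero, zero_add]

/-- **the number of inverting involutions** -/
theorem exists_pairs (hC : S.CDeg) {z : G} {r : ℕ} (hr : r.Prime) (hru : r ∣ S.uu)
    (hrz : r ∣ orderOf z) :
    ∃ σ : ℤ, (σ = 1 ∨ σ = -1) ∧ (r : ℤ) ∣ S.uS σ ∧ (S.c.pairs z : ℤ) = S.uS σ := by
  classical
  letI := Fintype.ofFinite G
  letI := Fintype.ofFinite (Cfsg.IrrCharacter G)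
  letI : Fintype S.T.R := Fintype.ofFinite _
  letI : Fintype S.T.T := Fintype.ofFinite _
  haveI := S.T.T_cyclic
  haveI : Finite (S.T.T →* ℂˣ) := by
    letI := IsCyclic.commGroup (α := S.T.T)
    exact finite_dual S.T.T
  letI : Fintype {j : S.T.T →* ℂˣ // j ≠ 1} := Fintype.ofFinite _
  obtain ⟨L, _, K, hKq, hKN, hKe, hKf, hKε, hKo, hK, -⟩ :=
    S.c.exists_cols_strong S.T (S.c.pairVals S.T) S.c.weight_pairs
  have hgood : S.Good z := ⟨r, hr, hru, hrz⟩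
  obtain ⟨σ, hσ, hrσ, hrσ'⟩ := S.exists_sigma hr hru
  refine ⟨σ, hσ, hrσ, ?_⟩
  have hσ2 : σ * σ = 1 := by rcases hσ with e | e <;> rw [e] <;> norm_num
  set n := (Nat.card G).factorization r with hn_def
  have hn : r ^ n ∣ Nat.card G := Nat.ordProj_dvd _ _
  have hn' : ¬ r ^ (n + 1) ∣ Nat.card G := Nat.pow_succ_factorization_not_dvd Nat.card_pos.ne' hr
  have hε : K.ε = -1 := by rw [hKε, S.eps]
  have hKq' : K.q = (S.q : ℤ) := by rw [hKq]; rfl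
  have hq27 : (27 : ℤ) ≤ K.q := by rw [hKq']; exact_mod_cast S.q_ge
  have hqθ : K.q = 3 * (S.θ : ℤ) ^ 2 := by rw [hKq']; exact_mod_cast S.q_theta
  have huu : (S.uu : ℤ) = K.q ^ 2 - K.q + 1 := by rw [hKq', S.uu_int]
  have hpr := Nat.prime_iff_prime_int.1 hr
  have huud : (r : ℤ) ^ n ∣ (S.uu : ℤ) := by exact_mod_cast S.pow_dvd_uu hr hru hn
  have huσd : (r : ℤ) ^ n ∣ S.uS σ := by
    refine hpr.pow_dvd_of_dvd_mul_left n hrσ' ?_
    rwa [mul_comm, S.uS_mul hσ2]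
  set v : Cfsg.IrrCharacter G → ℂ := fun χ => (χ : G → ℂ) z with hv
  have zero_of : ∀ χ, (r : ℤ) ^ n ∣ K.deg χ → v χ = 0 := fun χ h => vanish hr hn hn' (hK χ).2.1 h hrz
  -- constituents of `B` and `C`
  have hB0 : ∀ m χ, K.B m χ ≠ 0 → v χ = 0 := by
    intro m χ hm
    obtain ⟨R⟩ := K.exists_quad m
    refine zero_of χ ?_
    have hN := R.N_eq
    rw [hKN, S.card_eq, hε] at hN
    have h4e : 4 * K.e = K.q + 1 := by rw [K.hq, hε]; ring
    have hD : R.D = -((S.q : ℤ) - 1) * S.uu := by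
      refine mul_left_cancel₀ (a := (K.q ^ 3 * (K.q + 1) : ℤ)) (by positivity) ?_
      push_cast [Nat.cast_sub (show 1 ≤ S.q by have := S.q_ge; omega)] at hN
      rw [← h4e]
      rw [hKq'] at hN h4e ⊢
      linear_combination hN + ((S.q : ℤ) ^ 3 * ((S.q : ℤ) - 1) * (S.uu : ℤ)) * h4e
    rw [R.deg_mem (K.orbit_rot hm R)]
    have : K.deg R.a = R.s * R.D := by
      rw [Cols.Quad.D]; rcases R.hs with e | e <;> rw [e] <;> ring
    rw [this, hD]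
    exact dvd_mul_of_dvd_right (dvd_mul_of_dvd_right huud _) _
  have hC0 : ∀ j χ, K.C j χ ≠ 0 → v χ = 0 := by
    intro j χ hj
    refine zero_of χ ?_
    have hne : S.c.colA S.T χ j.1 ≠ 0 := by rw [← (hK χ).2.2.2.2 j]; exact_mod_cast hj
    have h := hC χ j.1 j.2 hne
    rw [← (hK χ).2.1] at h
    have h' : K.deg χ = (S.q : ℤ) ^ 3 + 1 := by
      have : ((K.deg χ : ℤ) : ℂ) = (((S.q : ℤ) ^ 3 + 1 : ℤ) : ℂ) := by rw [h]; push_cast; rfl
      exact_mod_cast this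
    rw [h', show (S.q : ℤ) ^ 3 + 1 = ((S.q : ℤ) + 1) * S.uu by rw [S.uu_int]; ring]
    exact dvd_mul_of_dvd_right huud _
  -- `τ` against `A` and `P`
  have htau : ∀ χ, (K.τ χ : ℂ) * v χ = -(((K.f * K.P χ - 2 * K.e * K.A χ : ℤ) : ℂ) * v χ) := by
    intro χ
    by_cases hv0 : v χ = 0
    · rw [hv0]; simp
    have hB : ∀ m, K.B m χ = 0 := fun m => by by_contra h; exact hv0 (hB0 m χ h)
    have hCz : ∀ j, K.C j χ = 0 := fun j => by by_contra h; exact hv0 (hC0 j χ h)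
    rw [K.tau_eq, Finset.sum_eq_zero (fun m _ => hB m), Finset.sum_eq_zero (fun j _ => hCz j), hε]
    push_cast; ring
  have oA : ∑ χ, (K.A χ : ℂ) * v χ = 0 := by
    simp only [fun χ => (hK χ).2.2.2.1]
    exact S.orth_colA hgood 1
  have oτ : ∑ χ, (K.τ χ : ℂ) * v χ = 0 := by
    simp only [fun χ => (hK χ).1]
    exact S.orth_Ct hgood rfl
  have oP : ∑ χ, (K.P χ : ℂ) * v χ = 0 := by
    have h : (K.f : ℂ) * ∑ χ, (K.P χ : ℂ) * v χ = 0 := by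
      have h1 : -(∑ χ, (K.τ χ : ℂ) * v χ) + 2 * (K.e : ℂ) * (∑ χ, (K.A χ : ℂ) * v χ) = 0 := by
        rw [oA, oτ]; ring
      rw [← h1, Finset.mul_sum, Finset.mul_sum, ← Finset.sum_neg_distrib, ← Finset.sum_add_distrib]
      refine Finset.sum_congr rfl fun χ _ => ?_
      rw [htau]; push_cast; ring
    exact (mul_eq_zero.1 h).resolve_left (Int.cast_ne_zero.2 (by linarith [K.f_ge]))
  -- the pattern of the Ree groups
  obtain ⟨l, Q, l', hl, hrow⟩ := K.exists_ree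
  have lA := Q.linA hl
  have lP := Q.linP hl
  have lD := Q.linΔ hl
  have lG := Q.linG hl
  have qA := Q.quadA hl
  have qP := Q.quadP hl
  have qD := Q.quadΔ hl
  have qG := Q.quadG hl
  have hfe : ((K.f : ℚ) - 2 * K.e) ^ 2 = 1 := by
    exact_mod_cast (by rw [K.f_sub, pow_two, K.eps_sq] : (K.f - 2 * K.e) ^ 2 = 1)
  have hqf : (K.f : ℚ) + 2 * K.e = K.q := by exact_mod_cast (by rw [K.hq, K.hf]; ring : K.f + 2 * K.e = K.q)
  have hnq : (-(K.f : ℚ) - 2 * K.e) ^ 2 = (K.q : ℚ) ^ 2 := by rw [← hqf]; ring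
  simp only [patRee, List.map_eq_cons_iff, List.map_eq_nil_iff] at hrow
  obtain ⟨x1, _, rfl, r1, x2, _, rfl, r2, x3, _, rfl, r3, x4, _, rfl, r4, x5, _, rfl, r5, x6, _, rfl, r6, x7, _, rfl, r7, rfl⟩ := hrow
  simp only [List.map_cons, List.map_nil, List.sum_cons, List.sum_nil, r1, r2, r3, r4, r5, r6, r7] at lA lP lD lG qA qP qD qG
  norm_num at lA lP lD lG qA qP qD qG
  simp only [hnq, hfe] at qA qP qG
  obtain ⟨-, hu, hw, hv5, hS, hS', hP, hP'⟩ := ree_values K.hε K.he K.hq K.hf (u := Q.F x7) (v := Q.F x5) (w := Q.F x6)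
    (A := Q.F x1) (B := Q.F x2) (A' := Q.F x3) (B' := Q.F x4) (D := Q.D) (Q.F_ne x7) (Q.F_ne x5) (Q.F_ne x6) (Q.F_ne x1)
    (Q.F_ne x2) (Q.F_ne x3) (Q.F_ne x4) Q.D_ne (by linarith) (by linarith) (by linarith) (by linarith)
    (by linear_combination qG) (by linear_combination qA) (by linear_combination qP) (by linear_combination qD)
  rw [hε] at hu hw hv5 hS hP
  have zeroF : ∀ x, (r : ℤ) ^ n ∣ Q.F x → v x = 0 := fun x h => zero_of x (by
    rw [show K.deg x = Q.sgn x * Q.F x by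
      rw [Cols.Quad.F]; linear_combination -(K.deg x) * Q.sgn_sq x]
    exact dvd_mul_of_dvd_right h _)
  have v7 : v x7 = 0 := zeroF x7 (by
    rw [hu, show -(K.q ^ 2 + -1 * K.q + 1) = -(S.uu : ℤ) by rw [huu]; ring]; exact dvd_neg.2 huud)
  have v6 : v x6 = 0 := zeroF x6 (by
    rw [hw, show -1 * K.q * (K.q ^ 2 + -1 * K.q + 1) = (-1 * K.q) * (S.uu : ℤ) by rw [huu]; ring]
    exact dvd_mul_of_dvd_right huud _)
  set X : ℤ := -((K.q - 1) * S.θ * σ * S.uS (-σ)) with hX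
  have hfour : ∀ A B : ℤ, A + B = K.q * (K.q - 1) → 12 * (A * B) = -(K.q * (K.q - 1) ^ 2 * (S.uu : ℤ)) →
      (r : ℤ) ^ n ∣ A ∨ 2 * A = X := by
    intro A B h1 h2
    rcases root_cases hσ2 hqθ huu h1 h2 with e | e
    · left
      refine hpr.pow_dvd_of_dvd_mul_left n (a := 2) (fun hd => ?_) ?_
      · exact (S.r_facts hr hru).1 ((Nat.prime_dvd_prime_iff_eq hr Nat.prime_two).1 (by exact_mod_cast hd))
      · rw [e, show K.q + 1 + 3 * (S.θ : ℤ) * σ = S.uS σ by rw [uS, hKq']]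
        exact dvd_mul_of_dvd_right huσd _
    · right
      rw [e, hX, uS, hKq']; ring
  have hS1 : Q.F x1 + Q.F x2 = K.q * (K.q - 1) := by rw [hS]; ring
  have hP1 : 12 * (Q.F x1 * Q.F x2) = -(K.q * (K.q - 1) ^ 2 * (S.uu : ℤ)) := by rw [hP, huu]; ring
  set w : Cfsg.IrrCharacter G → ℂ := fun x => (Q.sgn x : ℂ) * v x with hw'
  have hdiv : ∀ x A B, Q.F x = A → A + B = K.q * (K.q - 1) →
      12 * (A * B) = -(K.q * (K.q - 1) ^ 2 * (S.uu : ℤ)) → w x / (Q.F x : ℂ) = 2 * w x / (X : ℂ) := by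
    intro x A B hx h1 h2
    rcases hfour A B h1 h2 with e | e
    · rw [show w x = 0 by rw [hw']; simp only; rw [zeroF x (hx ▸ e), mul_zero]]; simp
    · rw [← e, hx]; push_cast
      have : (A : ℂ) ≠ 0 := by rw [← hx]; exact_mod_cast Q.F_ne x
      field_simp
  have d1 := hdiv x1 _ _ rfl hS1 hP1
  have d2 := hdiv x2 _ (Q.F x1) rfl (by linarith) (by rw [mul_comm (Q.F x2)]; exact hP1)
  have d3 := hdiv x3 _ _ rfl (hS'.trans hS1) (by rw [hP']; exact hP1)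
  have d4 := hdiv x4 _ (Q.F x3) rfl (by linarith) (by rw [mul_comm (Q.F x4), hP']; exact hP1)
  have vo : v K.o = 1 := by rw [hKo]; rfl
  have hzero : ∀ χ, K.A χ = 0 → K.P χ = 0 → (K.τ χ : ℂ) * v χ = 0 := fun χ a b => by
    rw [htau, a, b]; simp
  have sA := Q.sum_split _ hl (fun χ => (K.A χ : ℂ) * v χ) (fun χ a b c d => by rw [a]; simp)
  have sP := Q.sum_split _ hl (fun χ => (K.P χ : ℂ) * v χ) (fun χ a b c d => by rw [b]; simp)
  have sT := Q.sum_split _ hl (fun χ => (K.τ χ : ℂ) * ((K.τ χ : ℂ) * v χ) / (K.deg χ : ℂ))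
    (fun χ a b c d => by rw [hzero χ a b]; simp)
  rw [oA] at sA
  rw [oP] at sP
  simp only [List.map_cons, List.map_nil, List.sum_cons, List.sum_nil, add_zero, vo, v6, v7, mul_zero,
    zero_div, K.o_A, K.o_P, K.deg_o, Cols.Quad.tau_o (K := K)] at sA sP sT
  have eA : ∀ x, (K.A x : ℂ) * v x = ((Q.row x).1 : ℂ) * w x := fun x => by
    have hs : (Q.sgn x : ℂ) * Q.sgn x = 1 := by exact_mod_cast Q.sgn_sq x
    rw [hw', Cols.Quad.row]; push_cast; linear_combination -((K.A x : ℂ) * v x) * hs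
  have eP : ∀ x, (K.P x : ℂ) * v x = ((Q.row x).2.1 : ℂ) * w x := fun x => by
    have hs : (Q.sgn x : ℂ) * Q.sgn x = 1 := by exact_mod_cast Q.sgn_sq x
    rw [hw', Cols.Quad.row]; push_cast; linear_combination -((K.P x : ℂ) * v x) * hs
  have hmem : ∀ x, x ∈ [x1, x2, x3, x4, x5, x6, x7] → x ∈ Q.supp := fun x hx => Finset.mem_toList.1 (hl.subset hx)
  have eT : ∀ x, x ∈ [x1, x2, x3, x4, x5, x6, x7] → (K.τ x : ℂ) * ((K.τ x : ℂ) * v x) / (K.deg x : ℂ) =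
      ((K.f * (Q.row x).2.1 - 2 * K.e * (Q.row x).1 : ℤ) : ℂ) ^ 2 * (w x / (Q.F x : ℂ)) := fun x hx => by
    have hd : (K.deg x : ℂ) ≠ 0 := by exact_mod_cast K.deg_ne x
    rw [Q.tau_row (hmem x hx), hε, Cols.Quad.F, hw']
    rcases Q.sgn_cases x with e | e <;> simp only [e] <;> push_cast <;> field_simp
  simp only [eA, eP, r1, r2, r3, r4, r5, Int.cast_zero, Int.cast_one, Int.cast_neg, zero_mul, one_mul, neg_mul,
    add_zero, zero_add] at sA sP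
  rw [eT x1 (by simp), eT x2 (by simp), eT x3 (by simp), eT x4 (by simp), eT x5 (by simp), d1, d2, d3, d4, r1, r2,
    r3, r4, r5, hv5] at sT
  -- the count
  have hpair := S.c.pair_sum z
  have hsum : ∑ χ : Cfsg.IrrCharacter G, (χ : G → ℂ) S.c.t * (χ : G → ℂ) S.c.t * (χ : G → ℂ) z / (χ : G → ℂ) 1 =
      ∑ χ, (K.τ χ : ℂ) * ((K.τ χ : ℂ) * v χ) / (K.deg χ : ℂ) :=
    Finset.sum_congr rfl fun χ _ => by rw [(hK χ).1, (hK χ).2.1, hv, mul_assoc]
  rw [hsum, sT, S.c.card_Ct] at hpair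
  have h5 : w x5 = -1 := by linear_combination -sA
  have h14 : w x1 + (w x2 + (w x3 + w x4)) = -2 := by linear_combination -sP + h5
  have hfq : (K.f : ℂ) = ((K.q : ℂ) - 1) / 2 := by
    rw [eq_div_iff two_ne_zero]; exact_mod_cast (by rw [K.hf, K.hq, hε]; ring : K.f * 2 = K.q - 1)
  have heq : (K.e : ℂ) = ((K.q : ℂ) + 1) / 4 := by
    rw [eq_div_iff (by norm_num)]; exact_mod_cast (by rw [K.hq, hε]; ring : K.e * 4 = K.q + 1)
  have hqC : (S.q : ℂ) = (K.q : ℂ) := by rw [hKq']; push_cast; rfl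
  have hce : (S.c.e : ℂ) = (K.e : ℂ) := by rw [hKe]; push_cast; rfl
  have hcf : (S.c.f : ℂ) = (K.f : ℂ) := by rw [hKf]; push_cast; rfl
  have hcq : (S.c.q : ℂ) = (K.q : ℂ) := hqC
  rw [S.card_eq] at hpair
  push_cast [Nat.cast_sub (show 1 ≤ S.q by have := S.q_ge; omega)] at hpair
  have huC : (S.uu : ℂ) = ((S.uS σ : ℤ) : ℂ) * ((S.uS (-σ) : ℤ) : ℂ) := by
    rw [← Int.cast_mul, S.uS_mul hσ2]; push_cast; rfl
  have hθC : (S.θ : ℂ) ≠ 0 := Nat.cast_ne_zero.2 (pow_ne_zero _ (by norm_num))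
  have hq0 : (K.q : ℂ) ≠ 0 := Int.cast_ne_zero.2 (by omega)
  have hqm : (K.q : ℂ) - 1 ≠ 0 := sub_ne_zero.2 (by exact_mod_cast (show K.q ≠ 1 by omega))
  have hqp : (K.q : ℂ) + 1 ≠ 0 := by
    exact_mod_cast (show K.q + 1 ≠ 0 by omega)
  have hU0 : ((S.uS (-σ) : ℤ) : ℂ) ≠ 0 := Int.cast_ne_zero.2 fun e => hrσ' (e ▸ dvd_zero _)
  have hqθC : (K.q : ℂ) = 3 * (S.θ : ℂ) ^ 2 := by exact_mod_cast hqθ
  have hσ0 : (σ : ℂ) ≠ 0 := by rcases hσ with e | e <;> rw [e] <;> norm_num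
  have key : (S.q : ℂ) ^ 3 * ((S.q : ℂ) - 1) * ((S.q : ℂ) + 1) * (S.uu : ℂ) *
      (1 - 1 / (K.q : ℂ) + 2 * (K.f : ℂ) ^ 2 * (-2) / (X : ℂ)) =
      (8 * (S.c.e : ℂ) * (S.c.f : ℂ) * (S.c.q : ℂ)) ^ 2 * ((S.uS σ : ℤ) : ℂ) := by
    have hU' : ((S.uS (-σ) : ℤ) : ℂ) = (K.q : ℂ) + 1 - 3 * (S.θ : ℂ) * σ := by
      rw [uS, hKq']; push_cast; ring
    rw [hqC, huC, hX, hce, hcf, hcq, heq, hfq]
    push_cast
    field_simp
    rw [hU', hqθC]
    rcases hσ with e | e <;> rw [e] <;> push_cast <;> ring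
  have hCt : (8 * (S.c.e : ℂ) * (S.c.f : ℂ) * (S.c.q : ℂ)) ≠ 0 := by
    rw [hce, hcf, hcq, heq, hfq]
    exact mul_ne_zero (mul_ne_zero (mul_ne_zero (by norm_num) (div_ne_zero hqp (by norm_num))) (div_ne_zero hqm (by norm_num))) hq0
  have hres : ((S.c.pairs z : ℤ) : ℂ) = ((S.uS σ : ℤ) : ℂ) := by
    refine mul_left_cancel₀ (pow_ne_zero 2 hCt) ?_
    rw [← key, Int.cast_natCast, ← hpair]
    congr 1
    rw [h5]
    push_cast
    have hneq : (-(K.f : ℂ) - 2 * K.e) ^ 2 = (K.q : ℂ) ^ 2 := by rw [hfq, heq]; ring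
    have hq3' : (K.q : ℂ) ^ 2 / (K.q : ℂ) ^ 3 - 1 / (K.q : ℂ) = 0 := by field_simp; ring
    linear_combination (2 * (K.f : ℂ) ^ 2 / (X : ℂ)) * h14 - (1 / (K.q : ℂ) ^ 3) * hneq - hq3'
  exact_mod_cast hres

end Setup

end CfsgLib.Recog.ReeType
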