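import Cfsg.Agent.Lib.Recog.ReeType.Four
import Cfsg.Agent.Lib.Recog.ReeType.Chars
import Cfsg.Agent.Lib.Recog.JankoThompson.Ward.Torus

/-!
Owner: helper9. Groups of Ree type: the elements of prime order `r ∉ {2, 3}`: those with `r ∣ q ^ 2 - q + 1` have
abelian centralisers of order `q + 1 ± 3 θ` inverted by an involution; no element of order `r` commutes with a
nontrivial 3-element, and a 3-element normalising the subgroup of order `r` has order at most three.
-/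

set_option autoImplicit false
set_option linter.all false
set_option maxHeartbeats 800000

namespace CfsgLib.Recog.ReeType

open Subgroup CfsgLib.Recog.JankoThompson CfsgLib.LocalEven.GoldS

universe u v

variable {G : Type u} [Group G] {Fq : Type v} [Field Fq] [Fintype Fq] [Finite G]

theorem odd_sq_one {H : Type*} [Group H] {x : H} (ho : Odd (orderOf x)) (h : x * x = 1) : x = 1 := by
  exact eq_one_of_coprime (Nat.coprime_two_left.2 ho) (orderOf_dvd_of_pow_eq_one (by rw [pow_two, h])) dvd_rfl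

/-- if `[G : A]` is prime to `r`, the elements of order `r` are conjugate into `A` -/
theorem exists_conj_mem_of_index {A : Subgroup G} {r : ℕ} (hr : r.Prime) (hA : ¬ r ∣ A.index) {z : G}
    (hz : orderOf z = r) : ∃ g : G, g * z * g⁻¹ ∈ A := by
  haveI : Fact r.Prime := ⟨hr⟩
  obtain ⟨Q⟩ : Nonempty (Sylow r A) := inferInstance
  have hQc : Nat.card ((Q : Subgroup A).map A.subtype) = r ^ (Nat.card G).factorization r := by
    rw [Subgroup.card_map_of_injective A.subtype_injective, Q.card_eq_multiplicity, ← A.card_mul_index,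
      Nat.factorization_mul Nat.card_pos.ne' (fun h => hA (by rw [h]; exact dvd_zero _)), Finsupp.add_apply,
      Nat.factorization_eq_zero_of_not_dvd hA, add_zero]
  obtain ⟨P, hP⟩ := (IsPGroup.of_card (p := r) (n := 1) (by rw [Nat.card_zpowers, hz, pow_one]) :
    IsPGroup r (zpowers z)).exists_le_sylow
  obtain ⟨g, hg⟩ := MulAction.exists_smul_eq G P (Sylow.ofCard _ hQc)
  refine ⟨g, ?_⟩
  have h1 : g * z * g⁻¹ ∈ ((g • P : Sylow r G) : Subgroup G) := by
    rw [Sylow.coe_subgroup_smul]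
    exact Subgroup.smul_mem_pointwise_smul _ _ _ (hP (mem_zpowers z))
  rw [hg, Sylow.coe_ofCard] at h1
  exact map_subtype_le _ h1

theorem mem_zpowers_conj {H : Type*} [Group H] {y z : H} (g : H) (h : y * z * y⁻¹ ∈ zpowers z) :
    g * y * g⁻¹ * (g * z * g⁻¹) * (g * y * g⁻¹)⁻¹ ∈ zpowers (g * z * g⁻¹) := by
  obtain ⟨j, hj⟩ := h
  refine ⟨j, ?_⟩
  show (g * z * g⁻¹) ^ j = _
  rw [conj_zpow, show z ^ j = y * z * y⁻¹ from hj]
  group

/-- a permutation of three points of `3`-power order -/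
theorem cube_fix {α : Type*} (F : α → α) (hF : Function.Injective F) (a b d : α)
    (hmap : ∀ x, x = a ∨ x = b ∨ x = d → F x = a ∨ F x = b ∨ F x = d) (hne : F a ≠ a) (h2 : F (F a) ≠ a) :
    F (F (F a)) = a := by
  have h1 := hmap a (Or.inl rfl)
  have h3 := hmap _ h1
  have h4 := hmap _ h3
  have n1 : F (F a) ≠ F a := fun e => hne (hF e)
  have n2 : F (F (F a)) ≠ F (F a) := fun e => hne (hF (hF e))
  have n3 : F (F (F a)) ≠ F a := fun e => h2 (hF e)
  rcases h1 with e1 | e1 | e1 <;> rcases h3 with e3 | e3 | e3 <;> rcases h4 with e4 | e4 | e4 <;> simp_all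

namespace Setup

variable (S : Setup G Fq)

theorem p_eq : S.p = 3 := by
  obtain ⟨n, hn, hq⟩ := S.T.card_field
  have h1 : S.p ∣ 3 ^ (2 * S.m + 1) := by
    rw [← S.hq, show S.c.q = Fintype.card Fq from rfl, hq]; exact dvd_pow_self _ hn.ne'
  exact (Nat.prime_dvd_prime_iff_eq S.T.prime_p Nat.prime_three).1 (S.T.prime_p.dvd_of_dvd_pow h1)

include S in
/-- 3-elements of centralisers of involutions have order at most three -/
theorem three_cube {y a : G} (hy : IsThree y) (ha : orderOf a = 2) (hya : y * a = a * y) : y ^ 3 = 1 := by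
  by_cases hy1 : y = 1
  · rw [hy1, one_pow]
  obtain ⟨g, hg⟩ := S.exists_to_t ha
  obtain ⟨k, hk⟩ := S.c.mem_range_of_odd (z := g * y * g⁻¹) (hg ▸ conj_comm g hya) (hy.conj g).odd
  have hk3 : IsThree k := by
    obtain ⟨j, hj⟩ := hy.conj g
    exact ⟨j, by rwa [← hk, S.c.orderOf_ι] at hj⟩
  have hk1 : k ≠ 1 := fun e => hy1 (conj_eq_one_iff.1 (by rw [← hk, e, map_one] : g * y * g⁻¹ = 1))
  obtain ⟨h, hu, -⟩ := S.exists_root hk3 hk1
  have e := S.T.U_exp _ hu
  rw [S.p_eq, conj_pow, conj_eq_one_iff] at e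
  have e' : (g * y * g⁻¹) ^ 3 = 1 := by rw [← hk, ← map_pow, e, map_one]
  rwa [conj_pow, conj_eq_one_iff] at e'

/-- no involution centralises a good element -/
theorem Good.no_invol {z a : G} (hz : S.Good z) (ha : orderOf a = 2) : ¬ a * z = z * a := by
  intro h
  obtain ⟨g, hg⟩ := S.exists_to_t ha
  exact Good.not_isConj S hz (hg ▸ conj_comm g h.symm) (isConj_iff.2 ⟨g⁻¹, by group⟩)

theorem Good.odd_cent {z : G} (hz : S.Good z) : Odd (Nat.card (centralizer ({z} : Set G))) := by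
  haveI : Fact (Nat.Prime 2) := ⟨Nat.prime_two⟩
  by_contra he
  obtain ⟨a, ha⟩ := exists_prime_orderOf_dvd_card' (G := centralizer ({z} : Set G)) 2
    (even_iff_two_dvd.1 (Nat.not_odd_iff_even.1 he))
  exact Good.no_invol S hz (by rwa [orderOf_coe]) (mem_centralizer_singleton_iff.1 a.2)

/-- the facts at a prime divisor of `q ^ 2 - q + 1` -/
theorem good_structure (hC : S.CDeg) {z : G} {r : ℕ} (hr : r.Prime) (hru : r ∣ S.uu) (hz : orderOf z = r) :
    ∃ s : G, ∃ σ : ℤ, (σ = 1 ∨ σ = -1) ∧ (r : ℤ) ∣ S.uS σ ∧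
      (Nat.card (centralizer ({z} : Set G)) : ℤ) = S.uS σ ∧ orderOf s = 2 ∧ s * z * s⁻¹ = z⁻¹ ∧
      ∀ y ∈ centralizer ({z} : Set G), s * y * s⁻¹ = y⁻¹ := by
  obtain ⟨r2, r3, -, -, -, rCt⟩ := S.r_facts hr hru
  have hgood : S.Good z := ⟨r, hr, hru, hz ▸ dvd_rfl⟩
  obtain ⟨σ, hσ, hrσ, hpairs⟩ := S.exists_pairs hC hr hru (z := z) (hz ▸ dvd_rfl)
  have hne : S.uS σ ≠ 0 := by
    intro e
    have hq := S.q_ge
    have h := S.uS_mul (σ := σ) (by rcases hσ with e | e <;> rw [e] <;> norm_num)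
    rw [e, zero_mul, S.uu_int] at h
    nlinarith
  have hzz := Good.sq_ne S hgood
  obtain ⟨⟨s, hs, hs'⟩⟩ : Nonempty {i : G // orderOf i = 2 ∧ orderOf (i⁻¹ * z⁻¹) = 2} := by
    refine (Nat.card_pos_iff.1 (Nat.pos_of_ne_zero fun e => hne ?_)).1
    rw [← hpairs, JankoThompson.Ctx.pairs, e]; rfl
  have hsz := (pair_iff hs hzz).1 hs'
  have ss := mul_self_of_two hs
  have si := inv_of_two hs
  set C := centralizer ({z} : Set G) with hCdef
  have hCmem : ∀ y, y ∈ C ↔ y * z = z * y := fun y => mem_centralizer_singleton_iff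
  have hCodd : Odd (Nat.card C) := Good.odd_cent S hgood
  have hn : ∀ y ∈ C, s * y * s⁻¹ ∈ C := fun y hy => by
    rw [hCmem]
    have h1 : y * z⁻¹ = z⁻¹ * y := (show Commute y z from (hCmem y).1 hy).inv_right
    have h2 : z = s * z⁻¹ * s⁻¹ := by rw [← hsz, si, show s * (s * z * s) * s = (s * s) * z * (s * s) by group, ss]; group
    calc s * y * s⁻¹ * z = s * y * s⁻¹ * (s * z⁻¹ * s⁻¹) := by rw [← h2]
      _ = s * (y * z⁻¹) * s⁻¹ := by group
      _ = s * z⁻¹ * s⁻¹ * (s * y * s⁻¹) := by rw [h1]; group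
      _ = _ := by rw [← h2]
  have hfix : ∀ y ∈ C, s * y = y * s → y = 1 := by
    intro y hy hys
    have hyodd : Odd (orderOf y) := hCodd.of_dvd_nat (C.orderOf_dvd_natCard hy)
    have hyr : ¬ r ∣ orderOf y := fun h => by
      obtain ⟨g, hg⟩ := S.exists_to_t hs
      refine rCt (h.trans ?_)
      rw [← show orderOf (g * y * g⁻¹) = orderOf y by rw [← MulAut.conj_apply, MulEquiv.orderOf_eq],
        show S.q = S.c.q from rfl, ← S.c.card_Ct]
      exact Subgroup.orderOf_dvd_natCard _ (mem_centralizer_singleton_iff.2 (hg ▸ conj_comm g hys.symm))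
    have hyz : Commute y z := (hCmem y).1 hy
    have hcop : Nat.Coprime (orderOf y) r := (hr.coprime_iff_not_dvd.2 hyr).symm
    have hord : orderOf (y * z) = orderOf y * r := by
      rw [hyz.orderOf_mul_eq_mul_orderOf_of_coprime (by rwa [hz]), hz]
    have hyz_good : S.Good (y * z) := ⟨r, hr, hru, hord ▸ dvd_mul_left _ _⟩
    obtain ⟨σ', hσ', -, hp'⟩ := S.exists_pairs hC hr hru (z := y * z) (hord ▸ dvd_mul_left _ _)
    obtain ⟨⟨s', hs1, hs2⟩⟩ : Nonempty {i : G // orderOf i = 2 ∧ orderOf (i⁻¹ * (y * z)⁻¹) = 2} := by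
      refine (Nat.card_pos_iff.1 (Nat.pos_of_ne_zero fun e => ?_)).1
      rw [JankoThompson.Ctx.pairs, e] at hp'
      have h := S.uS_mul (σ := σ') (by rcases hσ' with e | e <;> rw [e] <;> norm_num)
      have hq := S.q_ge
      rw [← hp', S.uu_int] at h
      push_cast at h
      nlinarith
    have hinv := (pair_iff hs1 (Good.sq_ne S hyz_good)).1 hs2
    -- powers of `y z` give back `y` and `z`
    have hpow : ∀ j : ℕ, s' * (y ^ j * z ^ j) * s'⁻¹ = (y ^ j * z ^ j)⁻¹ := fun j => by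
      have e := congrArg (· ^ j) hinv
      simp only [conj_pow, inv_pow] at e
      rwa [hyz.mul_pow] at e
    obtain ⟨a, ha1, ha2⟩ := Nat.chineseRemainder hcop 1 0
    obtain ⟨b, hb1, hb2⟩ := Nat.chineseRemainder hcop 0 1
    have hy' : s' * y * s'⁻¹ = y⁻¹ := by
      have e := hpow a
      rwa [(pow_eq_pow_iff_modEq (n := a) (m := 1)).2 ha1, pow_one,
        (pow_eq_pow_iff_modEq (x := z) (n := a) (m := 0)).2 (by rwa [hz]), pow_zero, mul_one] at e
    have hz' : s' * z * s'⁻¹ = z⁻¹ := by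
      have e := hpow b
      rwa [(pow_eq_pow_iff_modEq (x := y) (n := b) (m := 0)).2 hb1, pow_zero, one_mul,
        (pow_eq_pow_iff_modEq (x := z) (n := b) (m := 1)).2 (by rwa [hz]), pow_one] at e
    have hc : s' * s ∈ C := by
      rw [hCmem, ← mul_inv_eq_iff_eq_mul, show s' * s * z * (s' * s)⁻¹ = s' * (s * z * s⁻¹) * s'⁻¹ by group, hsz,
        show s' * z⁻¹ * s'⁻¹ = (s' * z * s'⁻¹)⁻¹ by group, hz', inv_inv]
    set c := s' * s with hcdef
    have hcy : c * y * c⁻¹ = y⁻¹ := by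
      rw [hcdef, show s' * s * y * (s' * s)⁻¹ = s' * (s * y * s⁻¹) * s'⁻¹ by group, mul_inv_eq_iff_eq_mul.2 hys, hy']
    have hcc : Commute (c * c) y := by
      refine mul_inv_eq_iff_eq_mul.1 ?_
      rw [show c * c * y * (c * c)⁻¹ = c * (c * y * c⁻¹) * c⁻¹ by group, hcy,
        show c * y⁻¹ * c⁻¹ = (c * y * c⁻¹)⁻¹ by group, hcy, inv_inv]
    have hcY : Commute c y :=
      (commute_of_commute_sq (hCodd.of_dvd_nat (C.orderOf_dvd_natCard hc)) (z := y) hcc.eq.symm).symm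
    rw [mul_inv_eq_iff_eq_mul.2 hcY.eq] at hcy
    exact odd_sq_one hyodd (mul_eq_one_iff_eq_inv.2 hcy)
  have hinv : ∀ y ∈ C, s * y * s⁻¹ = y⁻¹ := fun y hy => inverted_of_no_fixed ss hCodd hn hfix hy
  refine ⟨s, σ, hσ, hrσ, ?_, hs, hsz, hinv⟩
  rw [← hpairs, Nat.cast_inj, JankoThompson.Ctx.pairs]
  have mem2 : ∀ y ∈ C, orderOf (y * s) = 2 ∧ orderOf ((y * s)⁻¹ * z⁻¹) = 2 := fun y hy => by
    have hys2 : y * s * (y * s) = 1 := by
      have e := hinv y hy
      rw [si] at e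
      rw [show y * s * (y * s) = y * (s * y * s) by group, e, mul_inv_cancel]
    have hne1 : y * s ≠ 1 := fun e => Good.no_invol S hgood hs (by
      have hsC : s ∈ C := by
        rw [eq_inv_of_mul_eq_one_right e]; exact C.inv_mem hy
      exact (hCmem s).1 hsC)
    refine ⟨orderOf_two hys2 hne1, (pair_iff (orderOf_two hys2 hne1) hzz).2 ?_⟩
    rw [show y * s * z * (y * s)⁻¹ = y * (s * z * s⁻¹) * y⁻¹ by group, hsz,
      mul_inv_eq_iff_eq_mul.2 ((show Commute y z from (hCmem y).1 hy).inv_right).eq]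
  refine Nat.card_congr (Equiv.ofBijective (fun y : C => ⟨(y : G) * s, mem2 y y.2⟩) ⟨?_, ?_⟩)
  · intro a b e
    exact Subtype.ext (mul_right_cancel (congrArg Subtype.val e))
  · rintro ⟨i, hi, hi'⟩
    have hiz := (pair_iff hi hzz).1 hi'
    refine ⟨⟨i * s, ?_⟩, Subtype.ext (by show i * s * s = i; rw [mul_assoc, ss, mul_one])⟩
    rw [hCmem, ← mul_inv_eq_iff_eq_mul, show i * s * z * (i * s)⁻¹ = i * (s * z * s⁻¹) * i⁻¹ by group, hsz,
      show i * z⁻¹ * i⁻¹ = (i * z * i⁻¹)⁻¹ by group, hiz, inv_inv]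

theorem three_not_dvd_uS {σ : ℤ} : ¬ (3 : ℤ) ∣ S.uS σ := by
  have h : (S.q : ℤ) = 3 * (S.θ : ℤ) ^ 2 := by exact_mod_cast S.q_theta
  rw [uS, h, show 3 * (S.θ : ℤ) ^ 2 + 1 + 3 * (S.θ : ℤ) * σ = 3 * ((S.θ : ℤ) ^ 2 + S.θ * σ) + 1 by ring]
  omega

/-- the three kinds of primes outside `{2, 3}` -/
theorem prime_cases {r : ℕ} (hr : r.Prime) (r2 : r ≠ 2) (r3 : r ≠ 3) (hd : r ∣ Nat.card G) :
    r ∣ S.uu ∨ (r ∣ S.c.e ∧ ¬ r ∣ 8 * S.c.f * S.q * S.uu) ∨
      (r ∣ S.c.f ∧ ¬ r ∣ 8 * S.c.e * S.q * S.uu) := by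
  obtain ⟨-, -, hef, he, hf⟩ := S.three_facts
  by_cases hu : r ∣ S.uu
  · exact Or.inl hu
  have hq : ¬ r ∣ S.q := fun h => r3 ((Nat.prime_dvd_prime_iff_eq hr Nat.prime_three).1
    (hr.dvd_of_dvd_pow (show r ∣ 3 ^ (2 * S.m + 1) by rw [← S.hq]; exact h)))
  have h8 : ¬ r ∣ 8 := fun h => r2 ((Nat.prime_dvd_prime_iff_eq hr Nat.prime_two).1
    (hr.dvd_of_dvd_pow (show r ∣ 2 ^ 3 from h)))
  rw [S.card_eq, show S.q - 1 = 2 * S.c.f by omega, he,
    show S.q ^ 3 * (2 * S.c.f) * (4 * S.c.e) * S.uu = 8 * (S.q ^ 3 * S.c.f * S.c.e * S.uu) by ring] at hd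
  rcases hr.dvd_mul.1 hd with h | h
  · exact absurd h h8
  rcases hr.dvd_mul.1 h with h | h
  swap
  · exact absurd h hu
  rcases hr.dvd_mul.1 h with h | h
  · rcases hr.dvd_mul.1 h with h | h
    · exact absurd (hr.dvd_of_dvd_pow h) hq
    · refine Or.inr (Or.inr ⟨h, fun h' => ?_⟩)
      simp only [hr.dvd_mul] at h'
      rcases h' with ((h' | h') | h') | h'
      exacts [h8 h', hr.ne_one (Nat.eq_one_of_dvd_coprimes hef h' h), hq h', hu h']
  · refine Or.inr (Or.inl ⟨h, fun h' => ?_⟩)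
    simp only [hr.dvd_mul] at h'
    rcases h' with ((h' | h') | h') | h'
    exacts [h8 h', hr.ne_one (Nat.eq_one_of_dvd_coprimes hef h h'), hq h', hu h']

theorem card_eq' : Nat.card G = S.c.e * (8 * S.c.f * S.q ^ 3 * S.uu) ∧
    Nat.card G = S.c.f * (8 * S.c.e * S.q ^ 3 * S.uu) := by
  obtain ⟨-, -, -, he, hf⟩ := S.three_facts
  constructor <;> rw [S.card_eq, show S.q - 1 = 2 * S.c.f by omega, he] <;> ring

theorem conj_into {A : Subgroup (P2 Fq)} {a b : ℕ} (hA : Nat.card A = a) (hG : Nat.card G = a * b) {r : ℕ}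
    (hr : r.Prime) (hb : ¬ r ∣ b) {z : G} (hz : orderOf z = r) : ∃ g : G, ∃ k ∈ A, g * z * g⁻¹ = S.c.ι k := by
  have hcard : Nat.card (A.map S.c.ι) = a := by rw [Subgroup.card_map_of_injective S.c.inj, hA]
  have hi : (A.map S.c.ι).index = b := by
    have h := (A.map S.c.ι).card_mul_index
    rw [hcard, hG] at h
    exact Nat.eq_of_mul_eq_mul_left (hA ▸ Nat.card_pos) h
  obtain ⟨g, k, hk, e⟩ := exists_conj_mem_of_index hr (A := A.map S.c.ι) (by rwa [hi]) hz
  exact ⟨g, k, hk, e.symm⟩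

theorem not_dvd_cofactor {r x : ℕ} (hr : r.Prime) (h : ¬ r ∣ 8 * x * S.q * S.uu) : ¬ r ∣ 8 * x * S.q ^ 3 * S.uu := by
  intro h'
  simp only [hr.dvd_mul] at h h'
  rcases h' with ((h' | h') | h') | h'
  exacts [h (Or.inl (Or.inl (Or.inl h'))), h (Or.inl (Or.inl (Or.inr h'))),
    h (Or.inl (Or.inr (hr.dvd_of_dvd_pow h'))), h (Or.inr h')]

theorem three_dvd_false {y : G} {σ : ℤ} {C : Subgroup G} (hy : IsThree y) (hyC : y ∈ C)
    (hC : (Nat.card C : ℤ) = S.uS σ) : y = 1 := by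
  obtain ⟨j, hj⟩ := hy
  have h3 : ¬ 3 ∣ Nat.card C := fun h => S.three_not_dvd_uS (σ := σ) (hC ▸ (by exact_mod_cast h))
  exact eq_one_of_coprime (Nat.Coprime.pow_left j (Nat.prime_three.coprime_iff_not_dvd.2 h3)) hj
    (C.orderOf_dvd_natCard hyC)

theorem f_invol {i : G} {k : P2 Fq} (hk : k ∈ S.T.T) (hk1 : k ≠ 1) (hi : orderOf i = 2)
    (hc : i * S.c.ι k = S.c.ι k * i) : i = S.c.t := by
  obtain ⟨l, hl, e⟩ := S.c.cent_cases_T S.T S.hq S.q_mod S.hcard hk hk1 hc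
  have hl2 : l * l = 1 := by
    refine S.c.inj ?_
    rw [map_one]
    rcases e with e | e
    · rw [map_mul, ← e]; exact mul_self_of_two hi
    · rw [← S.c.t_ι_mul, ← e]; exact mul_self_of_two hi
  have hl1 := odd_sq_one (S.c.odd_of_mem_T S.T hl) hl2
  rcases e with e | e <;> rw [hl1, map_one] at e
  · rw [e, orderOf_one] at hi; omega
  · rw [e, mul_one]

theorem e_invol {i : G} {k : S.T.R} (hk1 : k ≠ 1) (hi : orderOf i = 2)
    (hc : i * S.c.ι k = S.c.ι k * i) : i = S.c.t ∨ i = S.c.ι S.c.w ∨ i = S.c.t * S.c.ι S.c.w := by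
  rcases (S.c.mem_Dg).1 ((S.c.inA_of_cent S.T hk1 hc).mem_Dg (mul_self_of_two hi)) with e | e
  · rw [e, orderOf_one] at hi; omega
  · exact e

/-- **no element of order `r ∉ {2, 3}` commutes with a nontrivial 3-element** -/
theorem three_free (hC : S.CDeg) {y z : G} {r : ℕ} (hr : r.Prime) (r2 : r ≠ 2) (r3 : r ≠ 3) (hz : orderOf z = r)
    (hy : IsThree y) (hyz : y * z = z * y) : y = 1 := by
  rcases S.prime_cases hr r2 r3 (hz ▸ orderOf_dvd_natCard z) with hru | ⟨-, hb⟩ | ⟨-, hb⟩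
  · obtain ⟨s, σ, -, -, hcard, -, -, -⟩ := S.good_structure hC hr hru hz
    exact S.three_dvd_false hy (mem_centralizer_singleton_iff.2 hyz) hcard
  · obtain ⟨g, k, hk, hg⟩ := S.conj_into S.T.card_R S.card_eq'.1 hr (S.not_dvd_cofactor hr hb) hz
    have hk1 : k ≠ 1 := fun e => by
      rw [e, map_one, conj_eq_one_iff] at hg
      rw [hg, orderOf_one] at hz
      exact hr.ne_one hz.symm
    have hc : g * y * g⁻¹ * S.c.ι k = S.c.ι k * (g * y * g⁻¹) := hg ▸ conj_comm g hyz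
    have hin := S.c.inA_of_cent S.T (r := ⟨k, hk⟩) (fun e => hk1 (congrArg Subtype.val e)) hc
    by_contra hy1
    refine S.no_invol_t (b := S.c.ι S.c.w) (hy.conj g) (fun e => hy1 (conj_eq_one_iff.1 e)) ?_
      (by rw [S.c.orderOf_ι]; exact S.c.hw) (S.c.t_ι _) (Ne.symm S.c.t_ne_w) ?_
    · exact JankoThompson.Ctx.InA.comm hin (JankoThompson.Ctx.InA.of_Dg S.c S.T S.c.t_mem_Dg)
    · exact JankoThompson.Ctx.InA.comm hin (JankoThompson.Ctx.InA.of_Dg S.c S.T S.c.w_mem_Dg)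
  · obtain ⟨g, k, hk, hg⟩ := S.conj_into S.T.card_T S.card_eq'.2 hr (S.not_dvd_cofactor hr hb) hz
    have hk1 : k ≠ 1 := fun e => by
      rw [e, map_one, conj_eq_one_iff] at hg
      rw [hg, orderOf_one] at hz
      exact hr.ne_one hz.symm
    have hc : g * y * g⁻¹ * S.c.ι k = S.c.ι k * (g * y * g⁻¹) := hg ▸ conj_comm g hyz
    obtain ⟨l, hl, e⟩ := S.c.cent_cases_T S.T S.hq S.q_mod S.hcard hk hk1 hc
    have hd : orderOf (g * y * g⁻¹) ∣ 2 * S.c.f := by
      refine orderOf_dvd_of_pow_eq_one ?_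
      have hl' : l ^ S.c.f = 1 :=
        orderOf_dvd_iff_pow_eq_one.1 (S.T.card_T ▸ Subgroup.orderOf_dvd_natCard _ hl)
      rcases e with e | e <;> rw [e]
      · rw [← map_pow, mul_comm, pow_mul, hl', one_pow, map_one]
      · rw [(show Commute S.c.t (S.c.ι l) from (S.c.t_ι l).symm).mul_pow, ← map_pow, mul_comm 2, pow_mul l,
          hl', one_pow, map_one, mul_one, mul_comm, pow_mul, pow_two, S.c.tt, one_pow]
    obtain ⟨j, hj⟩ := hy.conj g
    exact conj_eq_one_iff.1 (eq_one_of_coprime (Nat.Coprime.pow_left j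
      (Nat.Coprime.mul_right (by decide) (Nat.prime_three.coprime_iff_not_dvd.2 S.three_facts.2.1))) hj hd)

/-- **a 3-element normalising a subgroup of order `r ∉ {2, 3}` has order at most three** -/
theorem norm_cube (hC : S.CDeg) {y z : G} {r : ℕ} (hr : r.Prime) (r2 : r ≠ 2) (r3 : r ≠ 3) (hz : orderOf z = r)
    (hy : IsThree y) (hn : y * z * y⁻¹ ∈ zpowers z) : y ^ 3 = 1 := by
  rcases S.prime_cases hr r2 r3 (hz ▸ orderOf_dvd_natCard z) with hru | ⟨-, hb⟩ | ⟨-, hb⟩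
  · obtain ⟨s, σ, -, -, hcard, hs, hsz, hinv⟩ := S.good_structure hC hr hru hz
    have ss := mul_self_of_two hs
    set C := centralizer ({z} : Set G) with hCdef
    have hCodd : Odd (Nat.card C) := Good.odd_cent S ⟨r, hr, hru, hz ▸ dvd_rfl⟩
    obtain ⟨a, ha⟩ := hn
    have ha' : z ^ a = y * z * y⁻¹ := ha
    -- `y s y⁻¹` inverts `z`
    set u := y * s * y⁻¹ with hu
    have huz : u * z * u⁻¹ = z⁻¹ := by
      have h1 : u * z ^ a * u⁻¹ = (z ^ a)⁻¹ := by
        rw [ha', hu, show y * s * y⁻¹ * (y * z * y⁻¹) * (y * s * y⁻¹)⁻¹ = y * (s * z * s⁻¹) * y⁻¹ by group, hsz]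
        group
      have hgen : z ∈ zpowers (z ^ a) := by
        haveI : Fact r.Prime := ⟨hr⟩
        have hne : z ^ a ≠ 1 := fun e => by
          rw [ha', conj_eq_one_iff] at e
          rw [e, orderOf_one] at hz
          exact hr.ne_one hz.symm
        have hcz : Nat.card (zpowers z) = r := by rw [Nat.card_zpowers, hz]
        have h := zpowers_eq_top_of_prime_card (p := r) hcz
          (g := (⟨z ^ a, zpow_mem (mem_zpowers z) a⟩ : zpowers z)) (fun e => hne (congrArg Subtype.val e))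
        obtain ⟨b, hb⟩ := h.ge (mem_top (⟨z, mem_zpowers z⟩ : zpowers z))
        exact ⟨b, congrArg Subtype.val hb⟩
      exact Inverted.mem_of_zpowers h1 hgen
    have hds : u * s ∈ C := by
      rw [mem_centralizer_singleton_iff, ← mul_inv_eq_iff_eq_mul,
        show u * s * z * (u * s)⁻¹ = u * (s * z * s⁻¹) * u⁻¹ by group, hsz,
        show u * z⁻¹ * u⁻¹ = (u * z * u⁻¹)⁻¹ by group, huz, inv_inv]
    obtain ⟨c0, hc0, hc2⟩ := exists_sq (hCodd.of_dvd_nat (C.orderOf_dvd_natCard hds))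
    have hc0C : c0 ∈ C := (zpowers_le.2 hds) hc0
    have hc0s : c0 * s * c0⁻¹ = u := by
      have h := hinv _ hc0C
      rw [← h, show c0 * s * (s * c0 * s⁻¹) = c0 * (s * s) * c0 * s⁻¹ by group, ss, mul_one, hc2,
        mul_inv_cancel_right]
    set y' := c0⁻¹ * y with hy'
    have hys : y' * s = s * y' := by
      refine mul_inv_eq_iff_eq_mul.1 ?_
      rw [hy', show c0⁻¹ * y * s * (c0⁻¹ * y)⁻¹ = c0⁻¹ * u * c0 by rw [hu]; group, ← hc0s]
      group
    have hact : ∀ n : ℕ, y' ^ n * z * (y' ^ n)⁻¹ = y ^ n * z * (y ^ n)⁻¹ := by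
      have hc0z : c0⁻¹ * z * c0⁻¹⁻¹ = z := mul_inv_eq_iff_eq_mul.2
        (mem_centralizer_singleton_iff.1 (C.inv_mem hc0C))
      intro n
      induction n with
      | zero => simp
      | succ n ih =>
        have hmem : ∀ n : ℕ, ∃ b : ℤ, y ^ n * z * (y ^ n)⁻¹ = z ^ b := fun n => by
          induction n with
          | zero => exact ⟨1, by simp⟩
          | succ n ih' =>
            obtain ⟨b, hb⟩ := ih'
            refine ⟨a * b, ?_⟩
            rw [pow_succ', show y * y ^ n * z * (y * y ^ n)⁻¹ = y * (y ^ n * z * (y ^ n)⁻¹) * y⁻¹ by group, hb,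
              ← conj_zpow, ← ha', ← zpow_mul]
        obtain ⟨b, hb⟩ := hmem n
        rw [pow_succ', show y' * y' ^ n * z * (y' * y' ^ n)⁻¹ = y' * (y' ^ n * z * (y' ^ n)⁻¹) * y'⁻¹ by group, ih, hb,
          pow_succ', show y * y ^ n * z * (y * y ^ n)⁻¹ = y * (y ^ n * z * (y ^ n)⁻¹) * y⁻¹ by group, hb, hy',
          show c0⁻¹ * y * z ^ b * (c0⁻¹ * y)⁻¹ = c0⁻¹ * (y * z ^ b * y⁻¹) * c0⁻¹⁻¹ by group, ← conj_zpow (a := y),
          ← ha', ← conj_zpow, ← conj_zpow, hc0z]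
    obtain ⟨j, hj⟩ := hy
    -- the prime-to-three part of the order of `y'`
    obtain ⟨i, b, hb3, hord⟩ := Nat.exists_eq_pow_mul_and_not_dvd (orderOf_pos y').ne' 3 (by norm_num)
    have h3b : (y' ^ b) ^ 3 = 1 := by
      refine S.three_cube ⟨i, ?_⟩ hs ((show Commute y' s from hys).pow_left b).eq
      rw [orderOf_dvd_iff_pow_eq_one, ← pow_mul, mul_comm, ← hord, pow_orderOf_eq_one]
    set N := normalizer (zpowers z : Set G)
    have hfix : ∀ n : ℕ, y' ^ n = 1 ∨ y ^ n = 1 → Commute (y ^ n) z := fun n h => by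
      refine mul_inv_eq_iff_eq_mul.1 ?_
      rcases h with h | h
      · rw [← hact, h]; group
      · rw [h]; group
    have hb' : Commute (y ^ (b * 3)) z := hfix _ (Or.inl (by rw [pow_mul, h3b]))
    have h3 : Commute (y ^ 3) z := by
      obtain ⟨v, hv⟩ := exists_pow_eq_self_of_coprime (x := y ^ 3) (n := b)
        (Nat.Coprime.coprime_dvd_right ((orderOf_pow_dvd 3).trans hj)
          (Nat.Coprime.pow_right j ((Nat.prime_three.coprime_iff_not_dvd.2 hb3).symm)))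
      rw [← hv, ← pow_mul y 3 b, mul_comm]
      exact hb'.pow_left v
    exact S.three_dvd_false ⟨j, (orderOf_pow_dvd 3).trans hj⟩
      (mem_centralizer_singleton_iff.2 h3.eq) hcard
  · obtain ⟨g, k, hk, hg⟩ := S.conj_into S.T.card_R S.card_eq'.1 hr (S.not_dvd_cofactor hr hb) hz
    have hk1 : k ≠ 1 := fun e => by
      rw [e, map_one, conj_eq_one_iff] at hg
      rw [hg, orderOf_one] at hz
      exact hr.ne_one hz.symm
    set y1 := g * y * g⁻¹ with hy1
    have hn1 : y1 * S.c.ι k * y1⁻¹ ∈ zpowers (S.c.ι k) := hg ▸ mem_zpowers_conj g hn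
    suffices h : y1 ^ 3 = 1 by rwa [hy1, conj_pow, conj_eq_one_iff] at h
    have h3 : IsThree y1 := hy.conj g
    -- the three involutions of `C(z)`
    have hmap : ∀ i, i = S.c.t ∨ i = S.c.ι S.c.w ∨ i = S.c.t * S.c.ι S.c.w →
        y1 * i * y1⁻¹ = S.c.t ∨ y1 * i * y1⁻¹ = S.c.ι S.c.w ∨ y1 * i * y1⁻¹ = S.c.t * S.c.ι S.c.w := by
      intro i hi
      have hi2 : orderOf i = 2 := by
        rcases hi with e | e | e <;> rw [e]
        · exact S.c.ht
        · rw [S.c.orderOf_ι]; exact S.c.hw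
        · exact orderOf_two (S.c.Dg_sq (mul_mem S.c.t_mem_Dg S.c.w_mem_Dg)) S.c.tw_ne
      refine S.e_invol (k := ⟨k, hk⟩) (fun e => hk1 (congrArg Subtype.val e))
        (by rw [← MulAut.conj_apply, MulEquiv.orderOf_eq]; exact hi2) ?_
      have hid : i * S.c.ι k = S.c.ι k * i :=
        (S.c.Rg_Dg S.T (a := S.c.ι k) ⟨k, hk, rfl⟩ (S.c.mem_Dg.2 (Or.inr hi))).symm
      obtain ⟨a, ha⟩ := hn1
      have ha' : (S.c.ι k) ^ a = y1 * S.c.ι k * y1⁻¹ := ha
      have hgen : S.c.ι k ∈ zpowers ((S.c.ι k) ^ a) := by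
        haveI : Fact r.Prime := ⟨hr⟩
        have hk' : orderOf (S.c.ι k) = r := by rw [← hg, ← MulAut.conj_apply, MulEquiv.orderOf_eq, hz]
        have hne : (S.c.ι k) ^ a ≠ 1 := fun e => by
          rw [ha', conj_eq_one_iff] at e
          rw [e, orderOf_one] at hk'
          exact hr.ne_one hk'.symm
        have h := zpowers_eq_top_of_prime_card (p := r) (by rw [Nat.card_zpowers, hk'])
          (g := (⟨(S.c.ι k) ^ a, zpow_mem (mem_zpowers _) a⟩ : zpowers (S.c.ι k)))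
          (fun e => hne (congrArg Subtype.val e))
        obtain ⟨b, hb⟩ := h.ge (mem_top (⟨S.c.ι k, mem_zpowers _⟩ : zpowers (S.c.ι k)))
        exact ⟨b, congrArg Subtype.val hb⟩
      obtain ⟨b, hb⟩ := hgen
      rw [← show ((S.c.ι k) ^ a) ^ b = S.c.ι k from hb, ha']
      exact ((show Commute (y1 * i * y1⁻¹) (y1 * S.c.ι k * y1⁻¹) from conj_comm y1 hid).zpow_right b).eq
    by_cases hfix : y1 * S.c.t = S.c.t * y1
    · exact S.three_cube h3 S.c.ht hfix
    set F : G → G := fun i => y1 * i * y1⁻¹ with hF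
    have h21 : F (F S.c.t) ≠ S.c.t := by
      intro e
      refine hfix ?_
      have e2 : Commute S.c.t (y1 * y1) := by
        refine (mul_inv_eq_iff_eq_mul.1 ?_).symm
        rw [hF] at e
        rw [show y1 * y1 * S.c.t * (y1 * y1)⁻¹ = y1 * (y1 * S.c.t * y1⁻¹) * y1⁻¹ by group]
        exact e
      exact commute_of_commute_sq h3.odd e2.eq ▸ rfl
    have h3fix : F (F (F S.c.t)) = S.c.t := cube_fix F
      (fun a b e => mul_left_cancel (mul_right_cancel e)) _ _ _ hmap (fun e => hfix (mul_inv_eq_iff_eq_mul.1 e)) h21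
    have hct : y1 ^ 3 * S.c.t = S.c.t * y1 ^ 3 := by
      refine mul_inv_eq_iff_eq_mul.1 ?_
      rw [hF] at h3fix
      rw [show y1 ^ 3 * S.c.t * (y1 ^ 3)⁻¹ = y1 * (y1 * (y1 * S.c.t * y1⁻¹) * y1⁻¹) * y1⁻¹ by simp [pow_succ, mul_assoc]]
      exact h3fix
    obtain ⟨j, hj⟩ := h3
    have h33 : IsThree (y1 ^ 3) := ⟨j, (orderOf_pow_dvd 3).trans hj⟩
    by_contra h
    have hi1 : orderOf (y1 * S.c.t * y1⁻¹) = 2 := by rw [← MulAut.conj_apply, MulEquiv.orderOf_eq]; exact S.c.ht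
    refine S.no_invol (a := S.c.t) (b := y1 * S.c.t * y1⁻¹) h33 h S.c.ht hi1 ?_ (fun e => hfix (mul_inv_eq_iff_eq_mul.1 e)) hct ?_
    · rcases hmap _ (Or.inl rfl) with e | e | e <;> rw [e]
      · exact (S.c.t_ι _).symm
      · rw [mul_assoc S.c.t, S.c.t_ι]
    · calc y1 ^ 3 * (y1 * S.c.t * y1⁻¹) = y1 * (y1 ^ 3 * S.c.t) * y1⁻¹ := by group
        _ = y1 * (S.c.t * y1 ^ 3) * y1⁻¹ := by rw [hct]
        _ = _ := by group
  · obtain ⟨g, k, hk, hg⟩ := S.conj_into S.T.card_T S.card_eq'.2 hr (S.not_dvd_cofactor hr hb) hz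
    have hk1 : k ≠ 1 := fun e => by
      rw [e, map_one, conj_eq_one_iff] at hg
      rw [hg, orderOf_one] at hz
      exact hr.ne_one hz.symm
    set y1 := g * y * g⁻¹ with hy1
    have hn1 : y1 * S.c.ι k * y1⁻¹ ∈ zpowers (S.c.ι k) := hg ▸ mem_zpowers_conj g hn
    suffices h : y1 ^ 3 = 1 by rwa [hy1, conj_pow, conj_eq_one_iff] at h
    obtain ⟨a, ha⟩ := hn1
    have ha' : S.c.ι (k ^ a) = y1 * S.c.ι k * y1⁻¹ := by rw [map_zpow]; exact ha
    have hka : k ^ a ≠ 1 := fun e => by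
      rw [e, map_one] at ha'
      exact hk1 (S.c.inj ((conj_eq_one_iff.1 ha'.symm).trans (map_one _).symm))
    have h := S.f_invol (i := y1 * S.c.t * y1⁻¹) (zpow_mem hk a) hka
      (by rw [← MulAut.conj_apply, MulEquiv.orderOf_eq]; exact S.c.ht) (by rw [ha']; exact conj_comm y1 (S.c.t_ι k).symm)
    exact S.three_cube (hy.conj g) S.c.ht (mul_inv_eq_iff_eq_mul.1 h)

end Setup

end CfsgLib.Recog.ReeType
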