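import Mathlib

/-!
Owner: helper9. A finite 3-group on which an automorphism `ρ` of prime order acts without fixed points and an
automorphism `τ` of order dividing three normalises but does not centralise `⟨ρ⟩` has cube order.
-/

set_option autoImplicit false
set_option linter.all false

namespace CfsgLib.Recog.ReeType

universe u

theorem mulAut_pow_mul {W : Type*} [Group W] (ρ : MulAut W) (m n : ℕ) (v : W) :
    (ρ ^ (m + n)) v = (ρ ^ m) ((ρ ^ n) v) := by rw [pow_add]; rfl

/-- the abelian case of exponent three -/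
theorem cube_abelian {W : Type*} [CommGroup W] [Finite W] (hexp : ∀ v : W, v ^ 3 = 1) {r : ℕ} (hr : r.Prime)
    (ρ τ : MulAut W) (a : ℕ) (hρ : ρ ^ r = 1) (hτ : τ ^ 3 = 1) (hrel : ∀ v, τ (ρ v) = (ρ ^ a) (τ v))
    (ha : ¬ a ≡ 1 [MOD r]) (hfix : ∀ v, ρ v = v → v = 1) : ∃ k, Nat.card W = k ^ 3 := by
  classical
  haveI : Fact r.Prime := ⟨hr⟩
  by_cases hρ1 : ρ = 1
  · refine ⟨1, ?_⟩
    rw [one_pow, Nat.card_eq_one_iff_exists]
    exact ⟨1, fun v => hfix v (by rw [hρ1]; rfl)⟩
  have hord : orderOf ρ = r := orderOf_eq_prime hρ hρ1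
  have hτ3 : ∀ v, τ (τ (τ v)) = v := fun v => by
    conv_rhs => rw [show v = (τ ^ 3) v by rw [hτ]; rfl]
    rfl
  have hrel' : ∀ (n : ℕ) (v : W), τ ((ρ ^ n) v) = (ρ ^ (a * n)) (τ v) := by
    intro n
    induction n with
    | zero => intro v; simp
    | succ n ih =>
      intro v
      rw [mulAut_pow_mul ρ n 1 v, pow_one, ih, hrel, ← mulAut_pow_mul, mul_add, mul_one]
  have ha3 : a * (a * a) ≡ 1 [MOD r] := by
    rw [← hord, ← pow_eq_pow_iff_modEq, pow_one]
    refine MulEquiv.ext fun w => ?_
    have h := congrArg τ (congrArg τ (hrel (τ (τ (τ (τ (τ (τ w))))))))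
    simp only [hτ3] at h
    have h1 := hrel' 1 w
    have h2 := hrel' a (τ w)
    have h3 := hrel' (a * a) (τ (τ w))
    rw [pow_one, mul_one] at h1
    have e := congrArg τ (congrArg τ h1)
    rw [h2, h3, hτ3, hτ3] at e
    exact e.symm
  set A : ZMod r := (a : ZMod r) with hA
  have hA3 : A * (A * A) = 1 := by
    rw [hA, ← Nat.cast_mul, ← Nat.cast_mul, ← Nat.cast_one]; exact (ZMod.natCast_eq_natCast_iff _ _ r).2 ha3
  have hA1 : A ≠ 1 := fun h => ha ((ZMod.natCast_eq_natCast_iff _ _ r).1 (by rw [Nat.cast_one]; exact h))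
  have hA2 : A * A ≠ 1 := fun h => hA1 (by rw [h, mul_one] at hA3; exact hA3)
  -- the powers of `ρ` indexed by `ZMod r`
  let h : ZMod r → W →* W := fun i => (ρ ^ i.val).toMonoidHom
  have hh : ∀ (n : ℕ) (v : W), h (n : ZMod r) v = (ρ ^ n) v := fun n v => by
    show (ρ ^ (n : ZMod r).val) v = _
    rw [ZMod.val_natCast, ← hord, pow_mod_orderOf]
  have hτh : ∀ i v, τ (h i v) = h (A * i) (τ v) := fun i v => by
    have e : A * i = ((a * i.val : ℕ) : ZMod r) := by rw [Nat.cast_mul, ZMod.natCast_zmod_val, hA]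
    rw [e, hh]
    exact hrel' _ v
  have hsum : ∀ v, ∏ i, h i v = 1 := fun v => by
    refine hfix _ ?_
    rw [map_prod]
    refine Fintype.prod_equiv (Equiv.addRight (1 : ZMod r)) _ _ fun i => ?_
    simp only [Equiv.coe_addRight]
    rw [show i + 1 = ((1 + i.val : ℕ) : ZMod r) by
      rw [Nat.cast_add, ZMod.natCast_zmod_val, Nat.cast_one, add_comm], hh, mulAut_pow_mul, pow_one]
    rfl
  let Ω : Finset (ZMod r) := Finset.univ.filter fun i =>
    i ≠ 0 ∧ i.val < (A * i).val ∧ i.val < (A * (A * i)).val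
  have honce : ∀ i : ZMod r, i ≠ 0 → ∀ v : W, h i v =
      (if i ∈ Ω then h i v else 1) * (if A * i ∈ Ω then h i v else 1) * (if A * (A * i) ∈ Ω then h i v else 1) := by
    intro i hi v
    have e1 : A * i ≠ i := fun e => hA1 (mul_right_cancel₀ hi (e.trans (one_mul i).symm))
    have e2 : A * (A * i) ≠ i := fun e => hA2 (mul_right_cancel₀ hi (by rw [mul_assoc]; exact e.trans (one_mul i).symm))
    have e3 : A * (A * (A * i)) = i := by linear_combination i * hA3
    have hA0 : A ≠ 0 := fun e => by rw [e, zero_mul] at hA3; exact zero_ne_one hA3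
    have e4 : A * (A * i) ≠ A * i := fun e => e1 (mul_left_cancel₀ hA0 e)
    have v1 : (A * i).val ≠ i.val := fun e => e1 (ZMod.val_injective r e)
    have v2 : (A * (A * i)).val ≠ i.val := fun e => e2 (ZMod.val_injective r e)
    have v4 : (A * (A * i)).val ≠ (A * i).val := fun e => e4 (ZMod.val_injective r e)
    simp only [Ω, Finset.mem_filter, Finset.mem_univ, true_and, ne_eq, mul_eq_zero, hA0, hi, false_or,
      not_false_eq_true, e3]
    split_ifs <;> first | (exfalso; omega) | simp
  let E : W →* W := ∏ i ∈ Ω, h i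
  have hE : ∀ v, E v = ∏ i ∈ Ω, h i v := fun v => MonoidHom.finsetProd_apply _ _ _
  have shift : ∀ (v : W) (B C : ZMod r), B * C = 1 →
      ∏ i ∈ Ω, h (B * i) v = ∏ i ∈ Finset.univ.erase 0, if C * i ∈ Ω then h i v else 1 := by
    intro v B C hBC
    rw [← Finset.prod_filter]
    refine Finset.prod_nbij' (fun i => B * i) (fun i => C * i) ?_ ?_ ?_ ?_ ?_
    · intro i hi
      have hi0 : i ≠ 0 := (Finset.mem_filter.1 hi).2.1
      simp only [Finset.mem_filter, Finset.mem_erase, Finset.mem_univ, and_true]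
      exact ⟨fun e => hi0 ((mul_eq_zero.1 e).resolve_left (left_ne_zero_of_mul_eq_one hBC)),
        by rw [← mul_assoc, mul_comm C, hBC, one_mul]; exact hi⟩
    · intro i hi
      exact (Finset.mem_filter.1 hi).2
    · intro i _; show C * (B * i) = i; rw [← mul_assoc, mul_comm C, hBC, one_mul]
    · intro i _; show B * (C * i) = i; rw [← mul_assoc, hBC, one_mul]
    · intro i _; rfl
  have hkey : ∀ v, v⁻¹ = E v * τ (E (τ (τ v))) * τ (τ (E (τ v))) := by
    intro v
    have h0 : v⁻¹ = ∏ i ∈ Finset.univ.erase (0 : ZMod r), h i v := by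
      refine inv_eq_of_mul_eq_one_right ?_
      have e := Finset.mul_prod_erase Finset.univ (fun i => h i v) (Finset.mem_univ (0 : ZMod r))
      rw [hsum] at e
      rwa [show h 0 v = v by show (ρ ^ (0 : ZMod r).val) v = v; rw [ZMod.val_zero, pow_zero]; rfl] at e
    rw [h0, Finset.prod_congr rfl fun i hi => honce i (Finset.mem_erase.1 hi).1 v, Finset.prod_mul_distrib,
      Finset.prod_mul_distrib, hE, hE, hE, map_prod, map_prod, map_prod]
    simp only [hτh, hτ3]
    rw [show (∏ i ∈ Ω, h i v) = ∏ i ∈ Ω, h (1 * i) v by simp, shift v 1 1 (one_mul 1), mul_right_comm]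
    congr 1
    · congr 1
      · exact Finset.prod_congr rfl fun i _ => by rw [one_mul]
      · rw [shift v A (A * A) hA3]; exact Finset.prod_congr rfl fun i _ => by rw [mul_assoc]
    · rw [show (∏ i ∈ Ω, h (A * (A * i)) v) = ∏ i ∈ Ω, h (A * A * i) v by simp [mul_assoc],
        shift v (A * A) A (by rw [mul_assoc]; exact hA3)]
  -- the norm and the difference
  let N : W →* W := MonoidHom.id W * τ.toMonoidHom * (τ.toMonoidHom.comp τ.toMonoidHom)
  let D : W →* W := τ.toMonoidHom / MonoidHom.id W
  have hN : ∀ v, N v = v * τ v * τ (τ v) := fun v => rfl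
  have hD : ∀ v, D v = τ v / v := fun v => rfl
  have hDD : ∀ v, D (D v) = N v := fun v => by
    rw [hD, hD, map_div, hN]
    have e := hexp (τ v)
    calc τ (τ v) / τ v / (τ v / v) = τ (τ v) * v * (τ v * τ v)⁻¹ := by
          rw [div_div_div_eq, div_eq_mul_inv]
      _ = _ := by
          rw [inv_eq_of_mul_eq_one_left (b := τ v * τ v) (by rw [← mul_assoc, ← pow_two, ← pow_succ]; exact e)]
          rw [mul_comm (τ (τ v)) v, mul_right_comm]
  have hker : ∀ v, v ∈ D.ker ↔ τ v = v := fun v => by rw [MonoidHom.mem_ker, hD, div_eq_one]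
  have hfixN : D.ker ≤ N.range := fun v hv => by
    rw [hker] at hv
    refine ⟨(E v)⁻¹, ?_⟩
    have e := hkey v
    rw [hv, hv] at e
    rw [map_inv, hN, ← e, inv_inv]
  have hkerN : N.ker ≤ D.range := fun v hv => by
    rw [MonoidHom.mem_ker, hN] at hv
    have m1 : ∀ x, τ x / x ∈ D.range := fun x => ⟨x, rfl⟩
    have m2 : ∀ x, τ (τ x) / x ∈ D.range := fun x => by
      have := D.range.mul_mem (m1 (τ x)) (m1 x)
      rwa [div_mul_div_cancel] at this
    have e1 : E v * E (τ (τ v)) * E (τ v) = 1 := by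
      rw [← map_mul, ← map_mul, mul_right_comm, hv, map_one]
    refine inv_mem_iff.1 ?_
    rw [hkey v, ← div_one (E v * τ (E (τ (τ v))) * τ (τ (E (τ v)))), ← e1, mul_div_mul_comm, mul_div_mul_left_eq_div]
    exact D.range.mul_mem (m1 _) (m2 _)
  have hfix_ker : D.ker ≤ D.range := fun v hv => hkerN (by
    rw [hker] at hv
    rw [MonoidHom.mem_ker, hN, hv, hv, ← pow_two, ← pow_succ]
    exact hexp v)
  have hrange : (D.comp D.range.subtype).range = D.ker := by
    refine le_antisymm ?_ fun v hv => ?_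
    · rintro _ ⟨⟨_, u, rfl⟩, rfl⟩
      show D (D u) ∈ D.ker
      rw [hker, hDD, hN, map_mul, map_mul, hτ3, mul_comm (τ u * τ (τ u)), mul_assoc]
    · obtain ⟨u, hu⟩ := hfixN hv
      exact ⟨⟨D u, u, rfl⟩, (hDD u).trans hu⟩
  have hkerc : Nat.card (D.comp D.range.subtype).ker = Nat.card D.ker := Nat.card_congr
    { toFun := fun x => ⟨(x.1 : W), x.2⟩
      invFun := fun x => ⟨⟨x.1, hfix_ker x.2⟩, x.2⟩
      left_inv := fun x => rfl
      right_inv := fun x => rfl }
  have c1 : Nat.card W = Nat.card D.ker * Nat.card D.range := by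
    rw [← D.ker.card_mul_index, Subgroup.index_ker]
  have c2 : Nat.card D.range = Nat.card D.ker * Nat.card D.ker := by
    conv_lhs => rw [← (D.comp D.range.subtype).ker.card_mul_index, Subgroup.index_ker, hrange, hkerc]
  exact ⟨Nat.card D.ker, by rw [c1, c2]; ring⟩

/-- the elements of the centre of exponent three -/
def omegaCenter (E : Type*) [Group E] : Subgroup E where
  carrier := {v | v ∈ Subgroup.center E ∧ v ^ 3 = 1}
  one_mem' := ⟨one_mem _, one_pow _⟩
  mul_mem' {a b} ha hb := ⟨mul_mem ha.1 hb.1, by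
    rw [(show Commute a b from (Subgroup.mem_center_iff.1 hb.1 a)).mul_pow, ha.2, hb.2, one_mul]⟩
  inv_mem' {a} ha := ⟨inv_mem ha.1, by rw [inv_pow, ha.2, inv_one]⟩

theorem omegaCenter_map {E : Type*} [Group E] (f : MulAut E) : (omegaCenter E).map f.toMonoidHom = omegaCenter E := by
  ext v
  constructor
  · rintro ⟨u, ⟨h1, h2⟩, rfl⟩
    refine ⟨Subgroup.mem_center_iff.2 fun g => ?_, by rw [← map_pow, h2, map_one]⟩
    show g * f u = f u * g
    rw [← f.apply_symm_apply g, ← map_mul, ← map_mul, Subgroup.mem_center_iff.1 h1]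
  · rintro ⟨h1, h2⟩
    refine ⟨f.symm v, ⟨Subgroup.mem_center_iff.2 fun g => ?_, ?_⟩, f.apply_symm_apply v⟩
    · apply f.injective
      rw [map_mul, map_mul, f.apply_symm_apply, Subgroup.mem_center_iff.1 h1]
    · apply f.injective
      rw [map_pow, f.apply_symm_apply, h2, map_one]

instance omegaCenter_normal (E : Type*) [Group E] : (omegaCenter E).Normal :=
  ⟨fun v hv g => by
    rw [Subgroup.mem_center_iff.1 hv.1 g, mul_inv_cancel_right]; exact hv⟩

/-- **cube lemma** -/
theorem cube_pgroup {E : Type u} [Group E] [Finite E] (hE : IsPGroup 3 E) {r : ℕ} (hr : r.Prime) (r3 : r ≠ 3)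
    (ρ τ : MulAut E) (a : ℕ) (hρ : ρ ^ r = 1) (hτ : τ ^ 3 = 1) (hrel : ∀ v, τ (ρ v) = (ρ ^ a) (τ v))
    (ha : ¬ a ≡ 1 [MOD r]) (hfix : ∀ v, ρ v = v → v = 1) : ∃ k, Nat.card E = k ^ 3 := by
  suffices h : ∀ n : ℕ, ∀ (E : Type u) [Group E] [Finite E], Nat.card E = n → IsPGroup 3 E →
      ∀ (ρ τ : MulAut E), ρ ^ r = 1 → τ ^ 3 = 1 → (∀ v, τ (ρ v) = (ρ ^ a) (τ v)) → (∀ v, ρ v = v → v = 1) →
      ∃ k, Nat.card E = k ^ 3 from h _ E rfl hE ρ τ hρ hτ hrel hfix
  intro n
  induction n using Nat.strong_induction_on with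
  | _ n ih =>
    intro E _ _ hn hE ρ τ hρ hτ hrel hfix
    classical
    haveI : Fact (Nat.Prime 3) := ⟨Nat.prime_three⟩
    haveI : Fact r.Prime := ⟨hr⟩
    rcases subsingleton_or_nontrivial E with hsub | hnt
    · exact ⟨1, by simp⟩
    set Z := omegaCenter E with hZ
    have hres : ∀ (f : MulAut E) (x : E), x ∈ Z → f x ∈ Z := fun f x hx => (omegaCenter_map f).le ⟨x, hx, rfl⟩
    let res : MulAut E → MulAut Z := fun f =>
      { toFun := fun x => ⟨f x, hres f _ x.2⟩
        invFun := fun x => ⟨f.symm x, hres f.symm _ x.2⟩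
        left_inv := fun x => Subtype.ext (f.symm_apply_apply _)
        right_inv := fun x => Subtype.ext (f.apply_symm_apply _)
        map_mul' := fun x y => Subtype.ext (map_mul f _ _) }
    have res_pow : ∀ (f : MulAut E) (n : ℕ) (x : Z), ((((res f) ^ n) x : Z) : E) = (f ^ n) x := by
      intro f n
      induction n with
      | zero => intro x; rfl
      | succ n ih => intro x; rw [pow_succ', pow_succ']; show f (((res f ^ n) x : Z) : E) = _; rw [ih]; rfl
    letI : CommGroup Z := { (inferInstance : Group Z) with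
      mul_comm := fun x y => Subtype.ext (Subgroup.mem_center_iff.1 y.2.1 x) }
    obtain ⟨k1, hk1⟩ := cube_abelian (W := Z) (fun v => Subtype.ext v.2.2) hr (res ρ) (res τ) a
      (MulEquiv.ext fun x => Subtype.ext (by rw [res_pow, hρ]; rfl))
      (MulEquiv.ext fun x => Subtype.ext (by rw [res_pow, hτ]; rfl))
      (fun x => Subtype.ext (by rw [res_pow]; exact hrel _)) ha
      (fun x hx => Subtype.ext (hfix _ (congrArg Subtype.val hx)))
    let quo : MulAut E → MulAut (E ⧸ Z) := fun f => QuotientGroup.congr Z Z f (omegaCenter_map f)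
    have quo_mk : ∀ (f : MulAut E) (x : E), quo f (x : E ⧸ Z) = ((f x : E) : E ⧸ Z) := fun f x => rfl
    have quo_pow : ∀ (f : MulAut E) (n : ℕ) (x : E), (quo f ^ n) (x : E ⧸ Z) = (((f ^ n) x : E) : E ⧸ Z) := by
      intro f n
      induction n with
      | zero => intro x; rfl
      | succ n ih => intro x; rw [pow_succ', pow_succ']; show quo f ((quo f ^ n) x) = _; rw [ih]; rfl
    have hZne : Z ≠ ⊥ := by
      have := hE.center_nontrivial
      obtain ⟨c, hc⟩ := exists_prime_orderOf_dvd_card' (G := Subgroup.center E) 3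
        ((hE.to_subgroup _).card_eq_or_dvd.resolve_left (Finite.one_lt_card).ne')
      intro e
      have h1 : (c : E) ∈ Z := ⟨c.2, by rw [← SubmonoidClass.coe_pow, ← hc, pow_orderOf_eq_one]; rfl⟩
      rw [e, Subgroup.mem_bot] at h1
      rw [show c = 1 from Subtype.ext h1, orderOf_one] at hc
      omega
    have hlt : Nat.card (E ⧸ Z) < n := by
      rw [← hn, ← Z.index_eq_card, ← Z.card_mul_index]
      exact lt_mul_left (Nat.pos_of_ne_zero Subgroup.index_ne_zero_of_finite)
        (Finite.one_lt_card_iff_nontrivial.2 (Z.nontrivial_iff_ne_bot.2 hZne))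
    obtain ⟨k2, hk2⟩ := ih _ hlt (E ⧸ Z) rfl (hE.to_quotient _) (quo ρ) (quo τ)
      (MulEquiv.ext fun x => by induction x using QuotientGroup.induction_on with | _ x => rw [quo_pow, hρ]; rfl)
      (MulEquiv.ext fun x => by induction x using QuotientGroup.induction_on with | _ x => rw [quo_pow, hτ]; rfl)
      (fun x => by
        induction x using QuotientGroup.induction_on with
        | _ x => rw [quo_mk, quo_mk, quo_mk, quo_pow, hrel])
      (fun x hx => by
        induction x using QuotientGroup.induction_on with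
        | _ x =>
          rw [quo_mk, QuotientGroup.eq] at hx
          -- the coset of `x` contains a fixed point
          have hmem : ∀ z : Z, x⁻¹ * ρ (x * z) ∈ Z := fun z => by
            rw [map_mul, ← mul_assoc]
            refine Z.mul_mem ?_ (hres ρ _ z.2)
            have := Z.inv_mem hx
            rwa [mul_inv_rev, inv_inv] at this
          let F : Z → Z := fun z => ⟨x⁻¹ * ρ (x * z), hmem z⟩
          have hF : ∀ (n : ℕ) (z : Z), x * ((F^[n] z : Z) : E) = (ρ ^ n) (x * z) := by
            intro n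
            induction n with
            | zero => intro z; rfl
            | succ n ih =>
              intro z
              rw [Function.iterate_succ_apply', pow_succ']
              show x * (x⁻¹ * ρ (x * (F^[n] z : Z))) = _
              rw [mul_inv_cancel_left, ih]
              rfl
          let Fe : Equiv.Perm Z :=
            { toFun := F
              invFun := F^[r - 1]
              left_inv := fun z => Subtype.ext (mul_left_cancel (a := x) (by
                rw [← Function.iterate_succ_apply, Nat.succ_eq_add_one, Nat.sub_add_cancel hr.pos, hF, hρ]; rfl))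
              right_inv := fun z => Subtype.ext (mul_left_cancel (a := x) (by
                rw [← Function.iterate_succ_apply' F, Nat.succ_eq_add_one, Nat.sub_add_cancel hr.pos, hF, hρ]; rfl)) }
          haveI := Fintype.ofFinite Z
          have hFe : Fe ^ r ^ 1 = 1 := Equiv.ext fun z => Subtype.ext (mul_left_cancel (a := x) (by
            rw [pow_one, Equiv.Perm.coe_pow]
            show x * ((F^[r] z : Z) : E) = _
            rw [hF, hρ]; rfl))
          obtain ⟨z, hz⟩ := Equiv.Perm.exists_fixed_point_of_prime (p := r) (n := 1) (fun hd => by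
            rw [← Nat.card_eq_fintype_card] at hd
            obtain ⟨i, hi⟩ := (hE.to_subgroup Z).exists_card_eq
            rw [hi] at hd
            exact r3 ((Nat.prime_dvd_prime_iff_eq hr Nat.prime_three).1 (hr.dvd_of_dvd_pow hd))) hFe
          have hz' : x⁻¹ * ρ (x * z) = z := congrArg Subtype.val hz
          have h1 := hfix (x * z) (inv_mul_eq_iff_eq_mul.1 hz')
          rw [QuotientGroup.eq_one_iff, eq_inv_of_mul_eq_one_left h1]
          exact Z.inv_mem z.2)
    exact ⟨k1 * k2, by rw [← Z.card_mul_index, Z.index_eq_card, hk1, hk2]; ring⟩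

end CfsgLib.Recog.ReeType
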