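import Cfsg.Agent.Lib.Recog.ReeType.Setup
import Cfsg.Agent.Lib.LocalEven.GoldS.Inverted

/-!
Owner: helper9. Groups of Ree type: root elements, and no four-group normalises a nontrivial 3-subgroup.
-/

set_option autoImplicit false
set_option linter.all false

namespace CfsgLib.Recog.ReeType

open Subgroup CfsgLib.Recog.JankoThompson CfsgLib.LocalEven.GoldS

universe u v

variable {G : Type u} [Group G] {Fq : Type v} [Field Fq] [Fintype Fq] [Finite G]

/-- an element of `3`-power order -/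
def IsThree {H : Type*} [Group H] (y : H) : Prop := ∃ j : ℕ, orderOf y ∣ 3 ^ j

theorem IsThree.conj {H : Type*} [Group H] {y : H} (h : IsThree y) (g : H) : IsThree (g * y * g⁻¹) := by
  obtain ⟨j, hj⟩ := h
  exact ⟨j, by rwa [← MulAut.conj_apply, MulEquiv.orderOf_eq]⟩

theorem IsThree.odd {H : Type*} [Group H] {y : H} (h : IsThree y) : Odd (orderOf y) := by
  obtain ⟨j, hj⟩ := h
  exact (Odd.pow (by decide : Odd 3)).of_dvd_nat hj

theorem isThree_of_mem {P : Subgroup G} (hP : IsPGroup 3 P) {y : G} (hy : y ∈ P) : IsThree y := by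
  haveI : Fact (Nat.Prime 3) := ⟨Nat.prime_three⟩
  obtain ⟨j, hj⟩ := hP ⟨y, hy⟩
  exact ⟨j, orderOf_dvd_of_pow_eq_one (congrArg Subtype.val hj)⟩

theorem conj_comm {H : Type*} [Group H] {x y : H} (g : H) (h : x * y = y * x) :
    g * x * g⁻¹ * (g * y * g⁻¹) = g * y * g⁻¹ * (g * x * g⁻¹) := by
  rw [show g * x * g⁻¹ * (g * y * g⁻¹) = g * (x * y) * g⁻¹ by group, h]
  group

namespace Setup

variable (S : Setup G Fq)

/-- a nontrivial 3-element of `K` lies in a root group -/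
theorem exists_root {k : P2 Fq} (hk : IsThree k) (hk1 : k ≠ 1) :
    ∃ h : P2 Fq, h * k * h⁻¹ ∈ S.T.U ∧ h * k * h⁻¹ ≠ 1 := by
  obtain ⟨e3, f3, -, -, -⟩ := S.three_facts
  obtain ⟨h, hh⟩ := S.T.cover k hk.odd
  have hne : ∀ {n : ℕ}, ¬ 3 ∣ n → ¬ orderOf (h * k * h⁻¹) ∣ n := fun {n} hn hd => by
    obtain ⟨j, hj⟩ := hk.conj h
    exact hk1 (conj_eq_one_iff.1 (eq_one_of_coprime (Nat.Coprime.pow_left j
      (Nat.prime_three.coprime_iff_not_dvd.2 hn)) hj hd))
  rcases hh with hh | hh | hh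
  · exact absurd (S.T.card_R ▸ Subgroup.orderOf_dvd_natCard _ hh) (hne e3)
  · exact absurd (S.T.card_T ▸ Subgroup.orderOf_dvd_natCard _ hh) (hne f3)
  · exact ⟨h, hh, fun e => hk1 (conj_eq_one_iff.1 e)⟩

/-- a 3-element of `C(t)` commutes with no other involution of `C(t)` -/
theorem no_invol_t {y b : G} (hy : IsThree y) (hy1 : y ≠ 1) (hyt : y * S.c.t = S.c.t * y) (hb : orderOf b = 2)
    (hbt : b * S.c.t = S.c.t * b) (hne : b ≠ S.c.t) (hyb : y * b = b * y) : False := by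
  obtain ⟨k, rfl⟩ := S.c.mem_range_of_odd hyt hy.odd
  have hk : IsThree k := by obtain ⟨j, hj⟩ := hy; exact ⟨j, by rwa [S.c.orderOf_ι] at hj⟩
  have hk1 : k ≠ 1 := fun e => hy1 (by rw [e, map_one])
  obtain ⟨i, hi, hik⟩ : ∃ i : P2 Fq, orderOf i = 2 ∧ S.c.ι (k * i) = S.c.ι (i * k) := by
    rcases S.c.invol_cases hb hbt with ⟨i, hi, rfl⟩ | ⟨i, hi, rfl⟩
    · exact ⟨i, hi, by rw [map_mul, map_mul, hyb]⟩
    · refine ⟨i, orderOf_two hi fun e => hne (by rw [e, map_one, mul_one]), ?_⟩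
      rw [map_mul, map_mul]
      refine mul_left_cancel (a := S.c.t) ?_
      rw [← mul_assoc S.c.t, ← S.c.t_ι, mul_assoc, hyb, mul_assoc]
  obtain ⟨h, hu, hu1⟩ := S.exists_root hk hk1
  have hmem := (S.T.cent_U _ hu hu1 (h * i * h⁻¹)).1 (conj_comm h (S.c.inj hik).symm)
  have h2 := S.c.odd_of_mem_U S.T hmem
  rw [← MulAut.conj_apply, MulEquiv.orderOf_eq, hi] at h2
  exact absurd h2 (by decide)

/-- transfer of an involution to `t` -/
theorem exists_to_t {a : G} (ha : orderOf a = 2) : ∃ g : G, g * a * g⁻¹ = S.c.t :=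
  isConj_iff.1 (S.c.one_class a ha).symm

include S in
/-- a nontrivial 3-element centralises at most one involution of a four-group -/
theorem no_invol {y a b : G} (hy : IsThree y) (hy1 : y ≠ 1) (ha : orderOf a = 2) (hb : orderOf b = 2)
    (hab : a * b = b * a) (hne : b ≠ a) (hya : y * a = a * y) (hyb : y * b = b * y) : False := by
  obtain ⟨g, hg⟩ := S.exists_to_t ha
  refine S.no_invol_t (y := g * y * g⁻¹) (b := g * b * g⁻¹) (hy.conj g) (fun e => hy1 (conj_eq_one_iff.1 e))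
    (hg ▸ conj_comm g hya) (by rw [← MulAut.conj_apply, MulEquiv.orderOf_eq]; exact hb)
    (hg ▸ conj_comm g hab.symm) (fun e => hne ?_) (conj_comm g hyb)
  exact mul_left_cancel (mul_right_cancel (e.trans hg.symm))

include S in
/-- a nontrivial 3-element of the centraliser of an involution is not inverted there -/
theorem not_inverted {y a b : G} (hy : IsThree y) (hy1 : y ≠ 1) (ha : orderOf a = 2)
    (hab : a * b = b * a) (hb : b * b = 1) (hya : y * a = a * y) (hinv : b * y * b⁻¹ = y⁻¹) : False := by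
  obtain ⟨g, hg⟩ := S.exists_to_t ha
  refine S.c.three_not_inverted S.T S.hq S.q_mod (y := g * y * g⁻¹) (s := g * b * g⁻¹) (hg ▸ conj_comm g hya)
    (hy.conj g) (fun e => hy1 (conj_eq_one_iff.1 e)) (hg ▸ conj_comm g hab.symm) ?_ ?_
  · rw [show g * b * g⁻¹ * (g * b * g⁻¹) = g * (b * b) * g⁻¹ by group, hb]; group
  · rw [show g * b * g⁻¹ * (g * y * g⁻¹) * (g * b * g⁻¹)⁻¹ = g * (b * y * b⁻¹) * g⁻¹ by group, hinv]; group

include S in
/-- **(A)** no four-group normalises a nontrivial 3-subgroup -/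
theorem no_four {X : Subgroup G} (hX : IsPGroup 3 X) {a b : G} (ha : orderOf a = 2) (hb : orderOf b = 2)
    (hab : a * b = b * a) (hne : b ≠ a) (hna : ∀ x ∈ X, a * x * a⁻¹ ∈ X) (hnb : ∀ x ∈ X, b * x * b⁻¹ ∈ X) :
    X = ⊥ := by
  have sq : ∀ {s : G}, orderOf s = 2 → s * s = 1 := fun h => mul_self_of_two h
  have hodd : Odd (Nat.card X) := by
    haveI : Fact (Nat.Prime 3) := ⟨Nat.prime_three⟩
    obtain ⟨i, hi⟩ := hX.exists_card_eq
    rw [hi]
    exact Odd.pow (by decide)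
  have fpf : ∀ {s t' : G}, orderOf s = 2 → orderOf t' = 2 → s * t' = t' * s → t' ≠ s →
      (∀ x ∈ X, t' * x * t'⁻¹ ∈ X) → ∀ x ∈ X, s * x = x * s → x = 1 := by
    intro s t' hs ht' hst hne' hn x hx hxs
    by_contra hx1
    set y := x⁻¹ * (t' * x * t'⁻¹) with hy
    have hyX : y ∈ X := X.mul_mem (X.inv_mem hx) (hn x hx)
    have e1 : (t' * x * t'⁻¹) * s = s * (t' * x * t'⁻¹) := by
      have h1 : Commute s t' := hst
      exact ((h1.mul_right (hxs : Commute s x)).mul_right h1.inv_right).symm.eq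
    have hys : y * s = s * y := ((Commute.inv_left (hxs.symm : Commute x s)).mul_left e1).eq
    have hinv : t' * y * t'⁻¹ = y⁻¹ := by
      rw [hy, inv_of_two ht', mul_inv_rev, inv_inv, mul_inv_rev, mul_inv_rev, inv_of_two ht']
      calc t' * (x⁻¹ * (t' * x * t')) * t' = t' * (x⁻¹ * t') * x * (t' * t') := by group
        _ = t' * (x⁻¹ * t') * x := by rw [sq ht', mul_one]
    by_cases hy1 : y = 1
    · refine S.no_invol (isThree_of_mem hX hx) hx1 hs ht' hst hne' hxs.symm ?_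
      rw [hy, inv_mul_eq_one] at hy1
      nth_rewrite 1 [hy1]
      rw [inv_mul_cancel_right]
    · exact S.not_inverted (isThree_of_mem hX hyX) hy1 hs hst (sq ht') hys hinv
  have hfa := fpf ha hb hab hne hnb
  have hfb := fpf hb ha hab.symm hne.symm hna
  have hab2 : orderOf (a * b) = 2 := orderOf_two (by
    rw [show a * b * (a * b) = a * (b * a) * b by group, ← hab, ← mul_assoc, sq ha, one_mul, sq hb]) fun e =>
      hne (by rw [eq_inv_of_mul_eq_one_right e, inv_of_two ha])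
  have hfc := fpf hab2 ha (show a * b * a = a * (a * b) by rw [mul_assoc, ← hab]) (fun e => by
    have : b = 1 := mul_left_cancel (e.symm.trans (mul_one a).symm)
    rw [this, orderOf_one] at hb
    omega) hna
  rw [Subgroup.eq_bot_iff_forall]
  intro x hx
  refine hfc x hx ?_
  have ia : a * x * a⁻¹ = x⁻¹ := inverted_of_no_fixed (sq ha) hodd hna hfa hx
  have ib : b * x * b⁻¹ = x⁻¹ := inverted_of_no_fixed (sq hb) hodd hnb hfb hx
  refine mul_inv_eq_iff_eq_mul.1 ?_
  rw [mul_inv_rev, show a * b * x * (b⁻¹ * a⁻¹) = a * (b * x * b⁻¹) * a⁻¹ by group, ib,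
    show a * x⁻¹ * a⁻¹ = (a * x * a⁻¹)⁻¹ by group, ia, inv_inv]

end Setup

end CfsgLib.Recog.ReeType
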