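import Cfsg.Agent.Lib.Recog.ReeType.Real
import Cfsg.Agent.Lib.Recog.Walter.List
import Cfsg.Agent.Lib.ThreePrimeUse.Homogeneous
import Cfsg.Agent.Lib.Classical.Dickson.Dihedral
import Cfsg.Agent.Lib.Classical.SL2TracePSL
import Cfsg.Agent.Lib.Recog.J1FromOrder.Centre
import Cfsg.Agent.Lib.Signalizer.Involutions
import Cfsg.Agent.S0205
import Cfsg.Agent.Lib.Perm.SuborbitThree.SylowTypes

/-!
Owner: helper9. S4047 from the list of simple groups with abelian Sylow 2-subgroups: a group with abelian or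
dihedral Sylow 2-subgroups which is homogeneous for a set of odd primes has a subgroup of the elements of order
prime to the set. The chain argument follows `Lib/ThreePrimeUse/Homogeneous.lean` of helper19.
-/

set_option autoImplicit false
set_option linter.all false

namespace CfsgLib.Recog.ReeType

open Subgroup
open CfsgLib.PiHomogeneous (Homog)
open CfsgLib.OddGated (PiNat)

universe u

/-! ### Automisers in factors -/

variable {π : Set ℕ}

/-- an element normalising an abelian `p`-subgroup of a factor, `p ∈ π`, has a power with exponent a `π`-number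
centralising it -/
theorem exists_pow_centralizes {G : Type u} [Group G] [Finite G] (hhom : Homog π G) {X : Type*} [Group X]
    (f : G →* X) (hf : Function.Surjective f) {p : ℕ} (hp : p.Prime) (hpπ : p ∈ π) {U : Subgroup X}
    (hU : IsPGroup p U) (hUc : ∀ a ∈ U, ∀ b ∈ U, a * b = b * a) {g : X} (hg : g ∈ normalizer (U : Set X)) :
    ∃ M : ℕ, (∀ r : ℕ, r.Prime → r ∣ M → r ∈ π) ∧ ∀ u ∈ U, g ^ M * u = u * g ^ M := by
  haveI : Fact p.Prime := ⟨hp⟩
  haveI : Finite X := Finite.of_surjective f hf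
  by_cases hUb : U = ⊥
  · refine ⟨1, fun r hr hd => absurd (Nat.dvd_one.1 hd) hr.ne_one, fun u hu => ?_⟩
    rw [hUb, mem_bot] at hu
    rw [hu, mul_one, one_mul]
  set K : Subgroup G := (normalizer (U : Set X)).comap f with hK
  set N : Subgroup ↥K := U.comap (f.comp K.subtype) with hN
  haveI : N.Normal := ⟨fun n hn k => by
    show f ((k * n * k⁻¹ : ↥K) : G) ∈ U
    rw [Subgroup.coe_mul, Subgroup.coe_mul, Subgroup.coe_inv, map_mul, map_mul, map_inv]
    exact (mem_normalizer_iff.1 (show f (k : G) ∈ normalizer (U : Set X) from k.2) _).1 hn⟩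
  obtain ⟨P, hP⟩ : ∃ P : Sylow p ↥N, P = default := ⟨_, rfl⟩
  let fN : ↥N →* ↥U := ((f.comp K.subtype).comp N.subtype).codRestrict U fun a => a.2
  have hfN : Function.Surjective fN := fun u => by
    obtain ⟨a, ha⟩ := hf (u : X)
    exact ⟨⟨⟨a, show f a ∈ normalizer (U : Set X) from ha ▸ le_normalizer u.2⟩, show f a ∈ U from ha ▸ u.2⟩,
      Subtype.ext ha⟩
  have hPtop : (P : Subgroup ↥N).map fN = ⊤ := by
    refine Subgroup.eq_top_of_card_eq _ ?_
    obtain ⟨i, hi⟩ := hU.exists_card_eq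
    obtain ⟨j, hj⟩ := (P.isPGroup'.map fN).exists_card_eq
    have h1 := ((P : Subgroup ↥N).map fN).card_mul_index
    have h2 : ((P : Subgroup ↥N).map fN).index ∣ p ^ i := hi ▸ ⟨_, by rw [← h1, mul_comm]⟩
    obtain ⟨k, -, hk⟩ := (Nat.dvd_prime_pow hp).1 h2
    rcases Nat.eq_zero_or_pos k with rfl | hk0
    · rw [← h1, hk, pow_zero, mul_one]
    · exfalso
      refine P.not_dvd_index ((dvd_pow_self p hk0.ne').trans (hk ▸ ?_))
      exact Subgroup.index_map_dvd (H := (P : Subgroup ↥N)) hfN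
  set S : Subgroup ↥K := (P : Subgroup ↥N).map N.subtype with hS
  have hSU : ∀ u ∈ U, ∃ z ∈ S, f (z : G) = u := by
    intro u hu
    have : (⟨u, hu⟩ : U) ∈ (P : Subgroup ↥N).map fN := hPtop ▸ mem_top _
    obtain ⟨z, hz, he⟩ := this
    exact ⟨_, mem_map_of_mem _ hz, congrArg Subtype.val he⟩
  obtain ⟨m, hm⟩ := hf g
  have hmem : (⟨m, show f m ∈ normalizer (U : Set X) from hm.symm ▸ hg⟩ : ↥K) ∈
      normalizer (S : Set ↥K) ⊔ N := by
    rw [hS, Sylow.normalizer_sup_eq_top P]
    exact mem_top _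
  obtain ⟨a, ha, b, hb, hab⟩ := Subgroup.mem_sup_of_normal_right.1 hmem
  have hSpi : Cfsg.IsPiSubgroup π S := CfsgLib.PiHomogeneous.pi_of_pGroup hpπ (P.isPGroup'.map _)
  have hSne : S ≠ ⊥ := fun e => hUb (eq_bot_iff.2 fun u hu => by
    obtain ⟨z, hz, hzu⟩ := hSU u hu
    rw [e, mem_bot] at hz
    rw [← hzu, hz, OneMemClass.coe_one, map_one]
    exact one_mem _)
  set C := centralizer (S : Set ↥K) with hC
  set NS := normalizer (S : Set ↥K) with hNS
  haveI : (C.subgroupOf NS).Normal := ⟨fun c hc n => by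
    rw [mem_subgroupOf] at hc ⊢
    exact CfsgLib.PiHomogeneous.conj_mem_centralizer n.2 hc⟩
  refine ⟨C.relIndex NS, fun r hr hd => hhom.subgroup K S hSne hSpi r hr hd, fun u hu => ?_⟩
  have haM : a ^ C.relIndex NS ∈ C := mem_subgroupOf.1 (Subgroup.pow_index_mem (C.subgroupOf NS) ⟨a, ha⟩)
  generalize hMdef : C.relIndex NS = M at haM ⊢
  obtain ⟨z, hz, hzu⟩ := hSU u hu
  have h1 : f (a : G) ^ M * u = u * f (a : G) ^ M := by
    rw [← hzu, ← map_pow, ← map_mul, ← map_mul]
    exact congrArg (fun t : ↥K => f (t : G)) (mem_centralizer_iff.1 haM z hz).symm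
  set v : X := (f (b : G))⁻¹ with hv
  have hvU : v ∈ U := inv_mem hb
  have hga : f (a : G) = g * v := by
    rw [hv, eq_mul_inv_iff_mul_eq, ← hm, ← map_mul]
    exact congrArg (fun t : ↥K => f (t : G)) hab
  have key : ∀ k : ℕ, ∀ w ∈ U, (g * v) ^ k * w * ((g * v) ^ k)⁻¹ = g ^ k * w * (g ^ k)⁻¹ := by
    intro k
    induction k with
    | zero => simp
    | succ k ih =>
      intro w hw
      have hwU : g ^ k * w * (g ^ k)⁻¹ ∈ U := (mem_normalizer_iff.1 (pow_mem hg k) w).1 hw
      have assoc : ∀ z y : X, z * y * w * (z * y)⁻¹ = z * (y * w * y⁻¹) * z⁻¹ := fun z y => by group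
      rw [pow_succ', pow_succ', assoc, assoc, ih w hw,
        show g * v * (g ^ k * w * (g ^ k)⁻¹) * (g * v)⁻¹ = g * (v * (g ^ k * w * (g ^ k)⁻¹) * v⁻¹) * g⁻¹ by group,
        hUc v hvU _ hwU]
      group
  rw [hga] at h1
  have h2 := key M u hu
  rw [h1, mul_inv_cancel_right] at h2
  exact (mul_inv_eq_iff_eq_mul.1 h2.symm)

/-- some element of order `r` is inverted by an element -/
def RealPrime (X : Type*) [Group X] (r : ℕ) : Prop :=
  ∃ x g : X, orderOf x = r ∧ g * x * g⁻¹ = x⁻¹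

/-- no element of the set can be such a prime -/
def Obstructed (X : Type*) [Group X] (p : ℕ) : Prop :=
  RealPrime X p ∨ ∃ (r : ℕ) (U : Subgroup X) (g : X), r.Prime ∧ RealPrime X r ∧ IsPGroup p U ∧
    (∀ a ∈ U, ∀ b ∈ U, a * b = b * a) ∧ g ∈ normalizer (U : Set X) ∧ orderOf g = r ∧ ∃ u ∈ U, g * u ≠ u * g

theorem not_mem_of_real {G : Type u} [Group G] [Finite G] (hhom : Homog π G)
    (hodd : ∀ p ∈ π, p.Prime ∧ p ≠ 2) {X : Type*} [Group X] (f : G →* X) (hf : Function.Surjective f) {r : ℕ}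
    (hr : RealPrime X r) : r ∉ π := by
  intro hrπ
  obtain ⟨hp, hp2⟩ := hodd r hrπ
  obtain ⟨x, g, hx, hinv⟩ := hr
  haveI : Fact r.Prime := ⟨hp⟩
  have hg : g ∈ normalizer (zpowers x : Set X) := by
    haveI : Finite X := Finite.of_surjective f hf
    refine mem_normalizer_fintype fun y hy => ?_
    obtain ⟨i, rfl⟩ := mem_zpowers_iff.1 hy
    rw [← conj_zpow, hinv]
    exact zpow_mem (inv_mem (mem_zpowers x)) _
  obtain ⟨M, hM, hc⟩ := exists_pow_centralizes hhom f hf hp hrπ (U := zpowers x)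
    (IsPGroup.of_card (p := r) (n := 1) (by rw [Nat.card_zpowers, hx, pow_one]))
    (fun a ⟨i, hi⟩ b ⟨j, hj⟩ => by rw [← hi, ← hj]; exact zpow_mul_comm x i j) hg
  have hMo : Odd M := Nat.odd_iff.2 (Nat.two_dvd_ne_zero.1 fun h2 =>
    (hodd 2 (hM 2 Nat.prime_two h2)).2 rfl)
  have hpow : ∀ k : ℕ, g ^ k * x * (g ^ k)⁻¹ = if Even k then x else x⁻¹ := by
    intro k
    induction k with
    | zero => simp
    | succ k ih =>
      rw [pow_succ', show g * g ^ k * x * (g * g ^ k)⁻¹ = g * (g ^ k * x * (g ^ k)⁻¹) * g⁻¹ by group, ih]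
      by_cases he : Even k
      · rw [if_pos he, if_neg (by simp [Nat.even_add_one, he]), hinv]
      · rw [if_neg he, if_pos (Nat.even_add_one.2 he), ← conj_inv, hinv, inv_inv]
  have h := hpow M
  rw [hc x (mem_zpowers x), mul_inv_cancel_right, if_neg (Nat.not_even_iff_odd.2 hMo)] at h
  have h2 : x ^ 2 = 1 := by rw [pow_two]; nth_rw 2 [h]; exact mul_inv_cancel x
  exact hp2 ((Nat.prime_dvd_prime_iff_eq hp Nat.prime_two).1 (hx ▸ orderOf_dvd_of_pow_eq_one h2))

theorem not_mem_of_obstructed {G : Type u} [Group G] [Finite G] (hhom : Homog π G)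
    (hodd : ∀ p ∈ π, p.Prime ∧ p ≠ 2) {X : Type*} [Group X] (f : G →* X) (hf : Function.Surjective f) {p : ℕ}
    (hp : Obstructed X p) : p ∉ π := by
  intro hpπ
  rcases hp with h | ⟨r, U, g, hr, hreal, hU, hUc, hg, hgr, u, hu, hne⟩
  · exact not_mem_of_real hhom hodd f hf h hpπ
  have hrπ := not_mem_of_real hhom hodd f hf hreal
  obtain ⟨M, hM, hc⟩ := exists_pow_centralizes hhom f hf (hodd p hpπ).1 hpπ hU hUc hg
  have hcop : (orderOf g).Coprime M := hgr ▸ hr.coprime_iff_not_dvd.2 fun h => hrπ (hM r hr h)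
  obtain ⟨k, hk⟩ := exists_pow_eq_self_of_coprime hcop.symm
  refine hne ?_
  rw [← hk]
  exact ((show Commute (g ^ M) u from hc u hu).pow_left k).eq

/-! ### The simple groups -/

section PSL

open Matrix CfsgLib.Classical.Trace
open scoped MatrixGroups

variable {F : Type} [Field F] [Fintype F]

local notation "PSL₂" => Matrix.ProjectiveSpecialLinearGroup (Fin 2) F

/-- an element of prime order different from the characteristic is inverted -/
theorem psl_real {p r : ℕ} [Fact p.Prime] [CharP F p] (hr : r.Prime) (hr2 : r ≠ 2) (hrp : r ≠ p) {x : PSL₂}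
    (hx : orderOf x = r) : RealPrime PSL₂ r := by
  obtain ⟨A, rfl⟩ := QuotientGroup.mk_surjective x
  have h4 : trc A ^ 2 ≠ 4 := by
    intro h4
    obtain ⟨e, he, hte⟩ : ∃ e : F, e ^ 2 = 1 ∧ trc A = 2 * e := by
      by_cases h2 : (2 : F) = 0
      · refine ⟨1, one_pow 2, ?_⟩
        rw [h2, zero_mul]
        rw [show (4 : F) = 2 * 2 by norm_num, h2, zero_mul] at h4
        exact pow_eq_zero_iff (two_ne_zero) |>.1 h4
      · refine ⟨trc A / 2, ?_, by field_simp⟩
        rw [div_pow, h4]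
        field_simp
        norm_num
    have := orderOf_dvd_of_pow_eq_one (mk_pow_char_eq_one p he hte)
    rw [hx] at this
    exact hrp ((Nat.prime_dvd_prime_iff_eq hr (Fact.out : p.Prime)).1 this)
  obtain ⟨w, -, hw, -⟩ := CfsgLib.Classical.Dickson.exists_inverter h4
  exact ⟨_, w, hx, hw⟩

/-- diagonal and upper unitriangular matrices -/
def dia (a : Fˣ) : SL(2, F) := ⟨!![(a : F), 0; 0, (a⁻¹ : Fˣ)], by simp [Matrix.det_fin_two_of]⟩

def uni (s : F) : SL(2, F) := ⟨!![1, s; 0, 1], by simp [Matrix.det_fin_two_of]⟩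

theorem uni_mul (s t : F) : uni s * uni t = uni (s + t) := by
  ext i j
  show ((uni s).1 * (uni t).1) i j = (uni (s + t)).1 i j
  fin_cases i <;> fin_cases j <;> simp [uni, Matrix.mul_apply, Fin.sum_univ_two, add_comm]

theorem uni_zero : uni (0 : F) = 1 := by
  ext i j
  show (uni (0 : F)).1 i j = (1 : Matrix (Fin 2) (Fin 2) F) i j
  fin_cases i <;> fin_cases j <;> simp [uni]

def diaHom : Fˣ →* SL(2, F) :=
  MonoidHom.mk' dia fun a b => by
    ext i j
    show (dia (a * b)).1 i j = ((dia a).1 * (dia b).1) i j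
    fin_cases i <;> fin_cases j <;> simp [dia, Matrix.mul_apply, Fin.sum_univ_two, mul_comm]

def uniHom : Multiplicative F →* PSL₂ :=
  (QuotientGroup.mk' _).comp (MonoidHom.mk' (fun s => uni (Multiplicative.toAdd s)) fun s t => (uni_mul _ _).symm)

theorem dia_conj (a : Fˣ) (s : F) : dia a * uni s = uni ((a : F) * a * s) * dia a := by
  ext i j
  show ((dia a).1 * (uni s).1) i j = ((uni ((a : F) * a * s)).1 * (dia a).1) i j
  fin_cases i <;> fin_cases j <;> simp [uni, dia, Matrix.mul_apply, Fin.sum_univ_two]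
  field_simp

theorem uni_injective {s t : F} (h : (QuotientGroup.mk (uni s) : PSL₂) = QuotientGroup.mk (uni t)) : s = t := by
  have h1 : (QuotientGroup.mk (uni (-s + t)) : PSL₂) = 1 := by
    rw [← uni_mul, QuotientGroup.mk_mul, ← h, ← QuotientGroup.mk_mul, uni_mul, neg_add_cancel]
    rw [uni_zero]; rfl
  have h2 := (mk_eq_one_iff.1 h1).1
  simp [uni] at h2
  exact (neg_add_eq_zero.1 h2)

theorem uni_conj (a : Fˣ) (s : F) :
    (QuotientGroup.mk (dia a) : PSL₂) * QuotientGroup.mk (uni s) * (QuotientGroup.mk (dia a))⁻¹ =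
      QuotientGroup.mk (uni ((a : F) * a * s)) := by
  rw [← QuotientGroup.mk_mul, dia_conj, QuotientGroup.mk_mul, mul_inv_cancel_right]

/-- every odd prime divisor of the order is obstructed -/
theorem psl_obstructed (hq : 4 ≤ Fintype.card F) {r : ℕ} (hr : r.Prime) (hr2 : r ≠ 2) (hd : r ∣ Nat.card PSL₂) :
    Obstructed PSL₂ r := by
  classical
  haveI : Fact r.Prime := ⟨hr⟩
  obtain ⟨p, _⟩ := CharP.exists F
  haveI : Fact p.Prime := ⟨CharP.char_is_prime F p⟩
  haveI : Finite PSL₂ := Finite.of_surjective _ (QuotientGroup.mk'_surjective _)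
  by_cases hrp : r = p
  swap
  · obtain ⟨x, hx⟩ := exists_prime_orderOf_dvd_card' (G := PSL₂) r hd
    exact Or.inl (psl_real hr hr2 hrp hx)
  subst hrp
  obtain ⟨n, -, hn⟩ := FiniteField.card F r
  have hu1 : orderOf (QuotientGroup.mk (uni (1 : F)) : PSL₂) = r := by
    refine orderOf_eq_prime ?_ fun h => one_ne_zero (α := F) (uni_injective (F := F) (s := 1) (t := 0) ?_)
    · show uniHom (Multiplicative.ofAdd (1 : F)) ^ r = 1
      rw [← map_pow, ← ofAdd_nsmul, nsmul_eq_mul, mul_one, CharP.cast_eq_zero, ofAdd_zero, map_one]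
    · rw [h]
      exact (map_one (uniHom (F := F))).symm
  have hqodd : Fintype.card F % 2 = 1 := by
    rw [hn]; exact Nat.odd_iff.1 ((hr.odd_of_ne_two hr2).pow)
  by_cases h4 : Fintype.card F % 4 = 1
  · obtain ⟨i, hi⟩ : IsSquare (-1 : F) := FiniteField.isSquare_neg_one_iff.2 (by omega)
    have hi0 : i ≠ 0 := fun e => by simp [e] at hi
    refine Or.inl ⟨_, QuotientGroup.mk (dia (Units.mk0 i hi0)), hu1, ?_⟩
    rw [uni_conj, eq_inv_iff_mul_eq_one, ← QuotientGroup.mk_mul, uni_mul, Units.val_mk0, mul_one, ← hi,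
      neg_add_cancel, uni_zero]
    rfl
  -- `q ≡ 3 (mod 4)`: a prime divisor of `(q - 1) / 2`
  obtain ⟨l, hl, hld⟩ := Nat.exists_prime_and_dvd (show (Fintype.card F - 1) / 2 ≠ 1 by omega)
  have hl2 : l ≠ 2 := by
    rintro rfl
    omega
  haveI : Fact l.Prime := ⟨hl⟩
  obtain ⟨a, ha⟩ := exists_prime_orderOf_dvd_card' (G := Fˣ) l (by
    rw [Nat.card_units, Nat.card_eq_fintype_card]
    exact hld.trans (Nat.div_dvd_of_dvd (by omega)))
  set g : PSL₂ := QuotientGroup.mk (dia a) with hg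
  have hgl : g ^ l = 1 := by
    rw [hg, ← QuotientGroup.mk_pow, show dia a ^ l = diaHom a ^ l from rfl, ← map_pow, ← ha, pow_orderOf_eq_one,
      map_one]
    rfl
  have hmove : g * QuotientGroup.mk (uni (1 : F)) ≠ QuotientGroup.mk (uni 1) * g := by
    intro h
    have h1 := uni_conj a (1 : F)
    rw [← hg, h, mul_inv_cancel_right] at h1
    have h2 : a ^ 2 = 1 := Units.ext (by
      have := uni_injective h1
      rw [mul_one] at this
      rw [Units.val_pow_eq_pow_val, pow_two, Units.val_one, ← this])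
    exact hl2 ((Nat.prime_dvd_prime_iff_eq hl Nat.prime_two).1 (ha ▸ orderOf_dvd_of_pow_eq_one h2))
  have hgo : orderOf g = l := orderOf_eq_prime hgl fun e => hmove (by rw [e, one_mul, mul_one])
  have hlr : l ≠ r := by
    rintro rfl
    have h1 : l ∣ Fintype.card F - 1 := hld.trans (Nat.div_dvd_of_dvd (by omega))
    have h2 : l ∣ Fintype.card F := by rw [hn]; exact dvd_pow_self l n.2.ne'
    have h3 := Nat.dvd_sub h2 h1
    rw [show Fintype.card F - (Fintype.card F - 1) = 1 by omega] at h3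
    exact hl.one_lt.ne' (Nat.dvd_one.1 h3)
  refine Or.inr ⟨l, (uniHom (F := F)).range, g, hl, psl_real hl hl2 hlr hgo, ?_, ?_, ?_, hgo, _, ⟨Multiplicative.ofAdd 1, rfl⟩, hmove⟩
  · rintro ⟨_, s, rfl⟩
    refine ⟨1, Subtype.ext ?_⟩
    rw [pow_one, SubgroupClass.coe_pow]
    show uniHom s ^ r = 1
    rw [← map_pow, show s ^ r = 1 from Multiplicative.toAdd.injective (by
      rw [toAdd_pow, nsmul_eq_mul, CharP.cast_eq_zero, zero_mul, toAdd_one]), map_one]
  · rintro _ ⟨s, rfl⟩ _ ⟨t, rfl⟩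
    rw [← map_mul, ← map_mul, mul_comm]
  · refine mem_normalizer_fintype ?_
    rintro _ ⟨s, rfl⟩
    exact ⟨Multiplicative.ofAdd ((a : F) * a * Multiplicative.toAdd s), (uni_conj a _).symm⟩

end PSL

theorem alt_seven_obstructed {r : ℕ} (hr : r.Prime) (hr2 : r ≠ 2) (hd : r ∣ Nat.card (alternatingGroup (Fin 7))) :
    Obstructed (alternatingGroup (Fin 7)) r := by
  have hc : Nat.card (alternatingGroup (Fin 7)) = 2520 := by
    rw [nat_card_alternatingGroup, Nat.card_fin]; decide
  rw [hc] at hd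
  have hcases : r = 3 ∨ r = 5 ∨ r = 7 := by
    have := (Nat.mem_primeFactors).2 ⟨hr, hd, by norm_num⟩
    rw [show Nat.primeFactors 2520 = {2, 3, 5, 7} by decide +kernel] at this
    simp only [Finset.mem_insert, Finset.mem_singleton] at this
    omega
  haveI : Fact (Nat.Prime 7) := ⟨by norm_num⟩
  haveI : Fact (Nat.Prime 5) := ⟨by norm_num⟩
  haveI : Fact (Nat.Prime 3) := ⟨by norm_num⟩
  let mk : List (List (Fin 7)) → Equiv.Perm (Fin 7) := fun l => (l.map List.formPerm).prod
  let x3 : alternatingGroup (Fin 7) := ⟨mk [[0, 1, 2]], Equiv.Perm.mem_alternatingGroup.2 (by decide +kernel)⟩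
  let g3 : alternatingGroup (Fin 7) := ⟨mk [[1, 2], [3, 4]], Equiv.Perm.mem_alternatingGroup.2 (by decide +kernel)⟩
  let x5 : alternatingGroup (Fin 7) := ⟨mk [[0, 1, 2, 3, 4]], Equiv.Perm.mem_alternatingGroup.2 (by decide +kernel)⟩
  let g5 : alternatingGroup (Fin 7) := ⟨mk [[1, 4], [2, 3]], Equiv.Perm.mem_alternatingGroup.2 (by decide +kernel)⟩
  let x7 : alternatingGroup (Fin 7) := ⟨mk [[0, 1, 2, 3, 4, 5, 6]], Equiv.Perm.mem_alternatingGroup.2 (by decide +kernel)⟩
  let g7 : alternatingGroup (Fin 7) := ⟨mk [[1, 2, 4], [3, 6, 5]], Equiv.Perm.mem_alternatingGroup.2 (by decide +kernel)⟩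
  rcases hcases with rfl | rfl | rfl
  · exact Or.inl ⟨x3, g3, orderOf_eq_prime (by decide +kernel) (by decide +kernel), by decide +kernel⟩
  · exact Or.inl ⟨x5, g5, orderOf_eq_prime (by decide +kernel) (by decide +kernel), by decide +kernel⟩
  · have hx : orderOf x7 = 7 := orderOf_eq_prime (by decide +kernel) (by decide +kernel)
    have hgx : g7 * x7 * g7⁻¹ = x7 ^ 2 := by decide +kernel
    refine Or.inr ⟨3, zpowers x7, g7, by norm_num,
      ⟨x3, g3, orderOf_eq_prime (by decide +kernel) (by decide +kernel), by decide +kernel⟩,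
      IsPGroup.of_card (p := 7) (n := 1) (by rw [Nat.card_zpowers, hx, pow_one]),
      fun a ⟨i, hi⟩ b ⟨j, hj⟩ => by rw [← hi, ← hj]; exact zpow_mul_comm x7 i j, ?_,
      orderOf_eq_prime (by decide +kernel) (by decide +kernel), x7, mem_zpowers _, by decide +kernel⟩
    refine mem_normalizer_fintype fun y hy => ?_
    obtain ⟨i, rfl⟩ := mem_zpowers_iff.1 hy
    rw [← conj_zpow, hgx]
    exact zpow_mem (pow_mem (mem_zpowers _) 2) _

section J1

open CfsgLib.Orders175560 CfsgLib.Recog.J1FromOrder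

theorem janko_numbers : ([7, 11, 19] : List ℕ).all (fun p => (List.range 19).all fun e =>
    !(decide (2 ≤ e) && decide ((p - 1) % e = 0) && decide (e % 2 = 1) && decide ((175560 / p) % e = 0) &&
      decide (175560 / p / e % p = 1))) = true := by decide +kernel

theorem j1_obstructed {X : Type*} [Group X] [Finite X] [IsSimpleGroup X] (hX : Nat.card X = 175560) {r : ℕ}
    (hr : r.Prime) (hr2 : r ≠ 2) (hd : r ∣ Nat.card X) : Obstructed X r := by
  haveI : Fact r.Prime := ⟨hr⟩
  have hcases : r = 3 ∨ r = 5 ∨ r = 7 ∨ r = 11 ∨ r = 19 := by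
    rw [hX] at hd
    have := (Nat.mem_primeFactors).2 ⟨hr, hd, by norm_num⟩
    rw [show Nat.primeFactors 175560 = {2, 3, 5, 7, 11, 19} by decide +kernel] at this
    simp only [Finset.mem_insert, Finset.mem_singleton] at this
    omega
  obtain ⟨t, ht, ⟨φ⟩⟩ := exists_local hX
  have conv : (∃ m n : CfsgLib.Recog.J1Order.Mdl, m ^ r = 1 ∧ m ≠ 1 ∧ n * m * n⁻¹ = m⁻¹) →
      RealPrime X r := fun ⟨m, n, h1, h2, h3⟩ => by
    refine ⟨(φ.symm m : X), (φ.symm n : X), ?_, ?_⟩
    · rw [orderOf_coe, MulEquiv.orderOf_eq]; exact orderOf_eq_prime h1 h2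
    · rw [← Subgroup.coe_inv, ← Subgroup.coe_mul, ← Subgroup.coe_mul, ← map_inv, ← map_mul, ← map_mul, h3, map_inv,
        Subgroup.coe_inv]
  rcases hcases with rfl | rfl | h
  · exact Or.inl (conv ⟨((1 : Multiplicative (ZMod 2)), ⟨Equiv.swap 0 1 * Equiv.swap 1 2, Equiv.Perm.mem_alternatingGroup.2 (by decide +kernel)⟩),
      ((1 : Multiplicative (ZMod 2)), ⟨Equiv.swap 0 1 * Equiv.swap 3 4, Equiv.Perm.mem_alternatingGroup.2 (by decide +kernel)⟩),
      by decide +kernel, by decide +kernel, by decide +kernel⟩)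
  · exact Or.inl (conv ⟨((1 : Multiplicative (ZMod 2)), ⟨List.formPerm [0, 1, 2, 3, 4], Equiv.Perm.mem_alternatingGroup.2 (by decide +kernel)⟩),
      ((1 : Multiplicative (ZMod 2)), ⟨Equiv.swap 1 4 * Equiv.swap 2 3, Equiv.Perm.mem_alternatingGroup.2 (by decide +kernel)⟩),
      by decide +kernel, by decide +kernel, by decide +kernel⟩)
  -- `r = 7, 11, 19`: the normaliser of a Sylow subgroup has even order
  refine Or.inl ?_
  have h1 : r ∣ Nat.card X := hd
  have h2 : ¬ r * r ∣ Nat.card X := by rw [hX]; rcases h with rfl | rfl | rfl <;> norm_num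
  obtain ⟨P, -⟩ : ∃ P : Sylow r X, P = default := ⟨_, rfl⟩
  have hne : ¬ IsPGroup r X := fun hp => by
    obtain ⟨k, hk⟩ := hp.exists_card_eq
    have h2d : 2 ∣ r ^ k := by rw [← hk, hX]; norm_num
    exact hr2 ((Nat.prime_dvd_prime_iff_eq Nat.prime_two hr).1 (Nat.prime_two.dvd_of_dvd_pow h2d)).symm
  obtain ⟨e, he1, hed, hre⟩ := exists_ratio h1 h2 P hne
  have hcodd : ¬ 2 ∣ cOf P := by
    intro hc
    haveI : Fact (Nat.Prime 2) := ⟨Nat.prime_two⟩
    obtain ⟨s, hs⟩ := exists_prime_orderOf_dvd_card' (G := centralizer ((P : Subgroup X) : Set X)) 2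
      (by rw [card_centralizer h1 h2 P]; exact hc.mul_left r)
    obtain ⟨x, hx⟩ := exists_prime_orderOf_dvd_card' (G := (P : Subgroup X)) r (P.dvd_card_of_dvd_card h1)
    obtain ⟨y, hy⟩ := isConj_iff.1 (involutions_conj hX (s : X) t (by rw [orderOf_coe]; exact hs) ht.1)
    have hmem : y * (x : X) * y⁻¹ ∈ centralizer ({t} : Set X) := by
      rw [mem_centralizer_singleton_iff, ← hy]
      calc y * (x : X) * y⁻¹ * (y * s * y⁻¹) = y * ((x : X) * s) * y⁻¹ := by group
        _ = y * ((s : X) * x) * y⁻¹ := by rw [mem_centralizer_iff.1 s.2 x x.2]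
        _ = _ := by group
    have hdvd := Subgroup.orderOf_dvd_natCard _ hmem
    rw [← MulAut.conj_apply, MulEquiv.orderOf_eq, orderOf_coe, hx, Nat.card_congr φ.toEquiv] at hdvd
    have h120 : Nat.card CfsgLib.Recog.J1Order.Mdl = 120 := by
      rw [Nat.card_eq_fintype_card]; decide +kernel
    rw [h120] at hdvd
    rcases h with rfl | rfl | rfl <;> norm_num at hdvd
  have hc1 : cOf P = 1 := by
    have L := (local_of_card hX).small (fun Q => cOf_five hX Q)
    haveI : Fact (Nat.Prime 7) := ⟨by norm_num⟩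
    haveI : Fact (Nat.Prime 11) := ⟨by norm_num⟩
    haveI : Fact (Nat.Prime 19) := ⟨by norm_num⟩
    rcases h with rfl | rfl | rfl
    · exact ((L P default default).1).resolve_right fun e => hcodd (by rw [e])
    · exact ((L default P default).2.1).resolve_right fun e => hcodd (by rw [e])
    · exact ((L default default P).2.2.1).resolve_right fun e => hcodd (by rw [e])
  rw [hc1, mul_one] at hre
  have heven : 2 ∣ e := by
    by_contra ho
    have hmul := card_eq_mul h1 h2 P
    rw [hre, hX] at hmul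
    have hdiv : 175560 / r = Nat.card (Sylow r X) * e := by
      rw [← hmul, mul_left_comm, Nat.mul_div_cancel_left _ hr.pos]
    have hn : 175560 / r / e = Nat.card (Sylow r X) := by rw [hdiv, Nat.mul_div_cancel _ (by omega)]
    have hmod : Nat.card (Sylow r X) % r = 1 % r := card_sylow_modEq_one r X
    rw [Nat.one_mod_eq_one.2 hr.ne_one, ← hn] at hmod
    have hk := janko_numbers
    simp only [List.all_eq_true] at hk
    have hk' := hk r (by simp; omega) e (List.mem_range.2 (by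
      have := Nat.le_of_dvd (by have := hr.two_le; omega) hed; omega))
    simp only [Bool.not_eq_true', Bool.and_eq_false_iff, decide_eq_false_iff_not] at hk'
    rcases hk' with (((hk' | hk') | hk') | hk') | hk'
    · exact hk' (by omega)
    · exact hk' (Nat.mod_eq_zero_of_dvd hed)
    · exact hk' (Nat.two_dvd_ne_zero.1 ho)
    · exact hk' (by rw [hdiv, Nat.mul_mod_left])
    · exact hk' hmod
  haveI : Fact (Nat.Prime 2) := ⟨Nat.prime_two⟩
  obtain ⟨s, hs⟩ := exists_prime_orderOf_dvd_card' (G := normalizer ((P : Subgroup X) : Set X)) 2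
    (by rw [card_normalizer h1 h2 P, hre]; exact heven.mul_left r)
  obtain ⟨x, hx⟩ := exists_prime_orderOf_dvd_card' (G := (P : Subgroup X)) r (P.dvd_card_of_dvd_card h1)
  have hx' : orderOf (x : X) = r := by rw [orderOf_coe]; exact hx
  have hPx : (P : Subgroup X) = zpowers (x : X) :=
    (eq_of_le_of_card_ge (zpowers_le.2 x.2) (by rw [Nat.card_zpowers, hx', card_sylow_eq_prime h1 h2 P])).symm
  obtain ⟨k, hk⟩ : ∃ k : ℤ, (x : X) ^ k = (s : X) * x * (s : X)⁻¹ :=
    mem_zpowers_iff.1 (by rw [← hPx]; exact (mem_normalizer_iff.1 s.2 (x : X)).1 x.2)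
  refine ⟨x, s, hx', ?_⟩
  -- `k ^ 2 ≡ 1`
  have hs2 : (s : X) * s = 1 := by
    rw [← pow_two, ← Subgroup.coe_pow, ← hs, pow_orderOf_eq_one, Subgroup.coe_one]
  have hk2 : (x : X) ^ (k * k - 1) = 1 := by
    have h3 : (s : X) * ((x : X) ^ k) * (s : X)⁻¹ = x := by
      rw [hk, inv_eq_of_mul_eq_one_right hs2]
      calc (s : X) * ((s : X) * x * s) * s = (s * s) * x * (s * s) := by group
        _ = x := by rw [hs2, one_mul, mul_one]
    rw [← conj_zpow, ← hk, ← zpow_mul] at h3
    rw [zpow_sub_one, h3, mul_inv_cancel]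
  rw [← orderOf_dvd_iff_zpow_eq_one, hx'] at hk2
  rw [show k * k - 1 = (k - 1) * (k + 1) by ring] at hk2
  rcases (Nat.prime_iff_prime_int.1 hr).dvd_or_dvd hk2 with hk2 | hk2
  · exfalso
    rw [← hx', orderOf_dvd_iff_zpow_eq_one, zpow_sub_one, mul_inv_eq_one] at hk2
    have hsC : (s : X) ∈ centralizer ((P : Subgroup X) : Set X) := by
      rw [mem_centralizer_iff]
      intro y hy
      rw [SetLike.mem_coe, hPx] at hy
      obtain ⟨i, rfl⟩ := mem_zpowers_iff.1 hy
      have : Commute (s : X) (x : X) := mul_inv_eq_iff_eq_mul.1 (hk ▸ hk2)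
      exact (this.zpow_right i).eq.symm
    have := Subgroup.orderOf_dvd_natCard _ hsC
    rw [orderOf_coe, hs, card_centralizer h1 h2 P, hc1, mul_one] at this
    exact hr2 ((Nat.prime_dvd_prime_iff_eq Nat.prime_two hr).1 this).symm
  · rw [← hx', orderOf_dvd_iff_zpow_eq_one, zpow_add_one, mul_eq_one_iff_eq_inv] at hk2
    rw [← hk, hk2]

end J1

/-! ### Abelian or dihedral Sylow 2-subgroups in factors -/

theorem mul_comm_of_two {A : Type*} [Group A] (h : ∀ a : A, a * a = 1) (a b : A) : a * b = b * a :=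
  calc a * b = (a * b)⁻¹ := (inv_eq_of_mul_eq_one_right (h _)).symm
    _ = b * a := by rw [mul_inv_rev, inv_eq_of_mul_eq_one_right (h b), inv_eq_of_mul_eq_one_right (h a)]

/-- abelian, or a cyclic subgroup outside which the elements are inverting involutions -/
def TwoShape (A : Type*) [Group A] : Prop :=
  (∀ a b : A, a * b = b * a) ∨
    ∃ c : A, ∀ x : A, x ∉ zpowers c → x * x = 1 ∧ x * c * x⁻¹ = c⁻¹

theorem TwoShape.of_injective {A B : Type*} [Group A] [Group B] (h : TwoShape A) (g : B →* A)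
    (hg : Function.Injective g) : TwoShape B := by
  rcases h with h | ⟨c, hc⟩
  · exact Or.inl fun a b => hg (by rw [map_mul, map_mul, h])
  · refine Or.inr ?_
    obtain ⟨d, hd⟩ : ∃ d : B, zpowers d = (zpowers c).comap g := by
      haveI : IsCyclic ((zpowers c).comap g) := isCyclic_of_injective
        ((g.comp (Subgroup.subtype _)).codRestrict (zpowers c) fun b => b.2) fun a b e =>
          Subtype.ext (hg (congrArg Subtype.val e))
      obtain ⟨⟨d, hdm⟩, hd⟩ := IsCyclic.exists_generator (α := (zpowers c).comap g)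
      refine ⟨d, le_antisymm (zpowers_le.2 hdm) fun x hx => ?_⟩
      obtain ⟨i, hi⟩ := mem_zpowers_iff.1 (hd ⟨x, hx⟩)
      exact mem_zpowers_iff.2 ⟨i, congrArg Subtype.val hi⟩
    refine ⟨d, fun x hx => ?_⟩
    rw [hd] at hx
    obtain ⟨h1, h2⟩ := hc (g x) hx
    obtain ⟨i, hi⟩ := mem_zpowers_iff.1 (show g d ∈ zpowers c from (hd ▸ mem_zpowers d : d ∈ (zpowers c).comap g))
    exact ⟨hg (by rw [map_mul, h1, map_one]), hg (by
      rw [map_mul, map_mul, map_inv, map_inv, ← hi, ← conj_zpow, h2, inv_zpow])⟩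

theorem TwoShape.of_surjective {A B : Type*} [Group A] [Group B] (h : TwoShape A) (g : A →* B)
    (hg : Function.Surjective g) : TwoShape B := by
  rcases h with h | ⟨c, hc⟩
  · refine Or.inl fun a b => ?_
    obtain ⟨a, rfl⟩ := hg a
    obtain ⟨b, rfl⟩ := hg b
    rw [← map_mul, h, map_mul]
  · refine Or.inr ⟨g c, fun y hy => ?_⟩
    obtain ⟨x, rfl⟩ := hg y
    obtain ⟨h1, h2⟩ := hc x fun hx => hy (by
      obtain ⟨i, rfl⟩ := mem_zpowers_iff.1 hx
      rw [map_zpow]; exact zpow_mem (mem_zpowers _) _)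
    exact ⟨by rw [← map_mul, h1, map_one], by rw [← map_inv, ← map_mul, ← map_mul, h2, map_inv]⟩

theorem twoShape_dihedral {A : Type*} [Group A] {n : ℕ} (e : A ≃* DihedralGroup n) : TwoShape A := by
  refine TwoShape.of_injective ?_ e.toMonoidHom e.injective
  refine Or.inr ⟨DihedralGroup.r 1, fun x hx => ?_⟩
  rcases x with i | i
  · exact absurd (mem_zpowers_iff.2 ⟨(i.cast : ℤ), by rw [DihedralGroup.r_one_zpow, ZMod.intCast_zmod_cast]⟩) hx
  · refine ⟨DihedralGroup.sr_mul_self i, ?_⟩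
    rw [DihedralGroup.inv_sr, DihedralGroup.sr_mul_r, DihedralGroup.sr_mul_sr, DihedralGroup.inv_r]
    congr 1; ring

/-- a Sylow 2-subgroup of a factor -/
theorem twoShape_factor {G : Type u} [Group G] [Finite G]
    (h2 : ∀ S : Sylow 2 G, TwoShape (S : Subgroup G)) (H : Subgroup G) {X : Type*} [Group X] (f : ↥H →* X)
    (hf : Function.Surjective f) (T : Sylow 2 X) : TwoShape (T : Subgroup X) := by
  haveI : Fact (Nat.Prime 2) := ⟨Nat.prime_two⟩
  haveI : Finite X := Finite.of_surjective f hf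
  obtain ⟨g, hg⟩ := MulAction.exists_smul_eq X ((default : Sylow 2 ↥H).mapSurjective hf) T
  obtain ⟨m, rfl⟩ := hf g
  set T' := m • (default : Sylow 2 ↥H) with hT'
  have hmap : (T' : Subgroup ↥H).map f = T := by
    rw [← hg, hT', Sylow.coe_subgroup_smul, Sylow.coe_subgroup_smul, Sylow.coe_mapSurjective]
    ext y
    simp only [Subgroup.pointwise_smul_def, Subgroup.mem_map]
    constructor
    · rintro ⟨_, ⟨a, ha, rfl⟩, rfl⟩
      exact ⟨f a, ⟨a, ha, rfl⟩, by simp⟩
    · rintro ⟨_, ⟨a, ha, rfl⟩, rfl⟩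
      exact ⟨_, ⟨a, ha, rfl⟩, by simp⟩
  obtain ⟨S, hS⟩ := (T'.isPGroup'.map H.subtype).exists_le_sylow
  refine ((h2 S).of_injective ((H.subtype.comp (T' : Subgroup ↥H).subtype).codRestrict _ fun a =>
    hS ⟨(a : ↥H), a.2, rfl⟩) fun a b e => ?_).of_surjective
    ((f.comp (T' : Subgroup ↥H).subtype).codRestrict _ fun a => hmap ▸ ⟨(a : ↥H), a.2, rfl⟩) fun y => ?_
  · exact Subtype.ext (Subtype.ext (congrArg (fun z : (S : Subgroup G) => (z : G)) e))
  · have hy : (y : X) ∈ (T' : Subgroup ↥H).map f := by rw [hmap]; exact y.2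
    obtain ⟨a, ha, hay⟩ := hy
    exact ⟨⟨a, ha⟩, Subtype.ext hay⟩

/-- simple groups with such Sylow 2-subgroups: every odd prime divisor of the order is obstructed -/
theorem simple_obstructed (hL : CfsgLib.Walter.WalterList.{u}) (X : Type u) [Group X] [Finite X] [IsSimpleGroup X]
    (hna : ¬ IsMulCommutative X) (h2 : ∀ T : Sylow 2 X, TwoShape (T : Subgroup X)) {p : ℕ} (hp : p.Prime)
    (hp2 : p ≠ 2) (hd : p ∣ Nat.card X) : Obstructed X p := by
  have htr : ∀ {Y : Type} [Group Y] (_ : X ≃* Y), Obstructed Y p → Obstructed X p := by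
    intro Y _ e h
    have hreal : ∀ {r : ℕ}, RealPrime Y r → RealPrime X r := fun ⟨x, g, hx, hg⟩ =>
      ⟨e.symm x, e.symm g, by rw [MulEquiv.orderOf_eq, hx], by rw [← map_inv, ← map_mul, ← map_mul, hg, map_inv]⟩
    rcases h with h | ⟨r, U, g, hr, hrr, hU, hUc, hg, hgr, u, hu, hne⟩
    · exact Or.inl (hreal h)
    refine Or.inr ⟨r, U.map e.symm.toMonoidHom, e.symm g, hr, hreal hrr, hU.map _, ?_, ?_,
      by rw [MulEquiv.orderOf_eq, hgr], e.symm u, mem_map_of_mem _ hu, fun h => hne ?_⟩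
    · rintro _ ⟨a, ha, rfl⟩ _ ⟨b, hb, rfl⟩
      rw [← map_mul, hUc a ha b hb, map_mul]
    · exact le_normalizer_map _ ⟨g, hg, rfl⟩
    · rw [← map_mul, ← map_mul] at h
      exact e.symm.injective h
  have hpsl : ∀ {F : Type} [Field F] [Fintype F], 4 ≤ Fintype.card F →
      Nonempty (X ≃* Matrix.ProjectiveSpecialLinearGroup (Fin 2) F) → Obstructed X p := by
    intro F _ _ h4 ⟨e⟩
    exact htr e (psl_obstructed h4 hp hp2 (by rw [← Nat.card_congr e.toEquiv]; exact hd))
  by_cases hab : ∀ T : Sylow 2 X, ∀ a b : (T : Subgroup X), a * b = b * a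
  · rcases hL X hna (fun T => ⟨⟨hab T⟩⟩) with ⟨n, hn, F, _, _, hF, he⟩ | ⟨F, _, _, h5, -, he⟩ | hJ |
      ⟨F, _, _, _, ⟨d⟩⟩
    · refine hpsl ?_ he
      rw [hF]
      calc 4 = 2 ^ 2 := rfl
        _ ≤ _ := Nat.pow_le_pow_right (by norm_num) hn
    · exact hpsl (by omega) he
    · exact j1_obstructed hJ.2 hp hp2 hd
    · obtain ⟨z, s, hz, -, hinv⟩ := exists_real d hp hp2 hd
      exact Or.inl ⟨z, s, hz, hinv⟩
  · push Not at hab
    obtain ⟨T, a, b, hne⟩ := hab
    rcases h2 T with h | ⟨c, hc⟩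
    · exact absurd (h a b) hne
    -- the Sylow subgroup is dihedral
    have hy : ∃ y, y ∉ zpowers c := by
      by_contra hall
      push Not at hall
      obtain ⟨i, rfl⟩ := mem_zpowers_iff.1 (hall a)
      obtain ⟨j, rfl⟩ := mem_zpowers_iff.1 (hall b)
      exact hne (zpow_mul_comm c i j)
    obtain ⟨y, hy⟩ := hy
    have hc2 : ¬ c * c = 1 := by
      intro hcc
      refine hne (mul_comm_of_two (fun z => ?_) a b)
      by_cases hz : z ∈ zpowers c
      · obtain ⟨i, rfl⟩ := mem_zpowers_iff.1 hz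
        rw [← zpow_add, show i + i = 2 * i by ring, zpow_mul, zpow_two, hcc, one_zpow]
      · exact (hc z hz).1
    have hidx : ∀ z, z ∉ zpowers c → y⁻¹ * z ∈ zpowers c := by
      intro z hz
      by_contra hyz
      obtain ⟨hy1, hy2⟩ := hc y hy
      obtain ⟨-, hz2⟩ := hc z hz
      obtain ⟨-, h3⟩ := hc _ hyz
      refine hc2 ?_
      have : y⁻¹ * z * c * (y⁻¹ * z)⁻¹ = c := by
        rw [show y⁻¹ * z * c * (y⁻¹ * z)⁻¹ = y⁻¹ * (z * c * z⁻¹) * y by group, hz2, ← hy2]
        group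
      rw [this] at h3
      nth_rw 2 [h3]
      exact mul_inv_cancel c
    have hy2 : orderOf y = 2 := orderOf_eq_prime (by rw [pow_two]; exact (hc y hy).1) fun e => hy (e ▸ one_mem _)
    have hyc : y * c ∉ zpowers c := fun h => hy (by
      have := mul_mem h (inv_mem (mem_zpowers c))
      rwa [mul_inv_cancel_right] at this)
    have hyc2 : orderOf (y * c) = 2 :=
      orderOf_eq_prime (by rw [pow_two]; exact (hc _ hyc).1) fun e => hyc (e ▸ one_mem _)
    obtain ⟨f, hfi, hfr⟩ := CfsgLib.Signalizer.exists_dihedral_hom hy2 hyc2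
    have hyyc : y * (y * c) = c := by rw [← mul_assoc, (hc y hy).1, one_mul]
    have htop : closure ({y, y * c} : Set (T : Subgroup X)) = ⊤ := by
      refine eq_top_iff.2 fun z _ => ?_
      have hcm : c ∈ closure ({y, y * c} : Set (T : Subgroup X)) := by
        have h := mul_mem (subset_closure (Set.mem_insert y {y * c})) (subset_closure (Set.mem_insert_of_mem y rfl))
        rwa [hyyc] at h
      by_cases hz : z ∈ zpowers c
      · exact zpowers_le.2 hcm hz
      · rw [show z = y * (y⁻¹ * z) by group]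
        exact mul_mem (subset_closure (by simp)) (zpowers_le.2 hcm (hidx z hz))
    have hn : 2 ≤ orderOf (y * (y * c)) := by
      rw [hyyc]
      have h1 : orderOf c ≠ 1 := fun e => hc2 (by rw [orderOf_eq_one_iff.1 e, one_mul])
      have := orderOf_pos c
      omega
    let e : (T : Subgroup X) ≃* DihedralGroup (orderOf (y * (y * c))) :=
      (MulEquiv.ofBijective f ⟨hfi, fun z => by
        have : z ∈ f.range := by rw [hfr, htop]; exact mem_top z
        exact this⟩).symm
    rcases CfsgLib.Perm.SuborbitThree.dihedral_simple (fun h => hna ⟨⟨h⟩⟩) hn ⟨e⟩ with ⟨F, _, _, ho, h3, he⟩ | ⟨⟨e'⟩⟩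
    · exact hpsl h3 he
    · exact htr e' (alt_seven_obstructed hp hp2 (by rw [← Nat.card_congr e'.toEquiv]; exact hd))

/-! ### The chain -/

/-- no prime of the set divides a non-abelian simple factor -/
def NoPiFactor (π : Set ℕ) (G : Type u) [Group G] : Prop :=
  ∀ (M : Subgroup G) [M.Normal] {X : Type u} [Group X], IsSimpleGroup X → ¬ IsMulCommutative X →
    ∀ f : ↥M →* X, Function.Surjective f → ∀ p ∈ π, ¬ p ∣ Nat.card X

variable {G : Type u} [Group G] [Finite G]

/-- A minimal normal subgroup over a normal subgroup. -/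
theorem pi_or_copi (hodd : ∀ p ∈ π, p.Prime ∧ p ≠ 2) (hblock : NoPiFactor π G) {N M : Subgroup G}
    [N.Normal] [M.Normal] (hNM : N < M) (hmin : ∀ K : Subgroup G, K.Normal → N < K → K ≤ M → K = M) :
    PiNat π (N.relIndex M) ∨ ∀ q : ℕ, q.Prime → q ∣ N.relIndex M → q ∉ π := by
  classical
  by_cases hπd : ∃ p ∈ π, p ∣ N.relIndex M
  swap
  · exact Or.inr fun q _ hd hq => hπd ⟨q, hq, hd⟩
  left
  obtain ⟨p, hpπ, hpd⟩ := hπd
  obtain ⟨hp, -⟩ := hodd p hpπ
  haveI : Fact p.Prime := ⟨hp⟩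
  set Q : Subgroup (G ⧸ N) := M.map (QuotientGroup.mk' N) with hQ
  have hQc : Nat.card Q = N.relIndex M := by
    rw [hQ, ← relIndex_bot_left, ← map_bot (QuotientGroup.mk' N), relIndex_map_map, bot_sup_eq,
      QuotientGroup.ker_mk', sup_of_le_left hNM.le]
  haveI : Q.Normal := Subgroup.Normal.map inferInstance _ (QuotientGroup.mk'_surjective N)
  have hQmin : ∀ K : Subgroup (G ⧸ N), K.Normal → K ≤ Q → K = ⊥ ∨ K = Q := by
    intro K hK hle
    have hcm : (Q.comap (QuotientGroup.mk' N)) = M := by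
      rw [hQ, comap_map_eq, QuotientGroup.ker_mk', sup_of_le_left hNM.le]
    rcases eq_or_lt_of_le (show N ≤ K.comap (QuotientGroup.mk' N) from fun a ha => by
      rw [mem_comap, show QuotientGroup.mk' N a = 1 from (QuotientGroup.eq_one_iff a).2 ha]; exact one_mem K) with e | e
    · left
      rw [← map_comap_eq_self_of_surjective (QuotientGroup.mk'_surjective N) K, ← e, Subgroup.map_eq_bot_iff,
        QuotientGroup.ker_mk']
    · right
      have := hmin _ (Subgroup.Normal.comap hK _) e (hcm ▸ comap_mono hle)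
      rw [← map_comap_eq_self_of_surjective (QuotientGroup.mk'_surjective N) K, this]
  have hchar : ∀ K : Subgroup ↥Q, K.Characteristic → K = ⊥ ∨ K = ⊤ := by
    intro K hK
    rcases hQmin (K.map Q.subtype) inferInstance (map_subtype_le K) with e | e
    · exact Or.inl ((map_eq_bot_iff_of_injective _ Q.subtype_injective).1 e)
    · refine Or.inr (map_injective Q.subtype_injective ?_)
      rw [e, ← MonoidHom.range_eq_map, Q.range_subtype]
  obtain ⟨y, hy⟩ := exists_prime_orderOf_dvd_card' (G := ↥Q) p (hQc.symm ▸ hpd)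
  have hy1 : y ≠ 1 := fun e => by rw [e, orderOf_one] at hy; exact hp.ne_one hy.symm
  haveI : Nontrivial ↥Q := ⟨⟨y, 1, hy1⟩⟩
  have hcommQ : commutator ↥Q ≠ ⊤ := by
    intro hperf
    -- intersection of the maximal normal subgroups
    obtain ⟨I, hI⟩ : ∃ I : Subgroup ↥Q, I = sInf {K : Subgroup ↥Q | ∃ _ : K.Normal, IsSimpleGroup (↥Q ⧸ K)} :=
      ⟨_, rfl⟩
    haveI hIc : I.Characteristic := by
      refine characteristic_iff_le_comap.2 fun φ => ?_
      rw [hI]
      intro a ha
      rw [mem_comap, mem_sInf]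
      rintro K ⟨hK, hKs⟩
      haveI := hK
      haveI : (K.comap φ.toMonoidHom).Normal := hK.comap _
      have hmem : K.comap φ.toMonoidHom ∈ {K : Subgroup ↥Q | ∃ _ : K.Normal, IsSimpleGroup (↥Q ⧸ K)} := by
        refine ⟨inferInstance, ?_⟩
        let e : ↥Q ⧸ K.comap φ.toMonoidHom ≃* ↥Q ⧸ K :=
          QuotientGroup.congr _ _ φ (map_comap_eq_self_of_surjective φ.surjective K)
        haveI := hKs
        exact e.isSimpleGroup
      exact (mem_sInf.1 ha) _ hmem
    have hyI : y ∈ I := by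
      rw [hI, mem_sInf]
      rintro K ⟨hK, hKs⟩
      haveI := hK
      haveI := hKs
      have hna : ¬ IsMulCommutative (↥Q ⧸ K) := fun hc => by
        letI : CommGroup (↥Q ⧸ K) :=
          { (inferInstance : Group (↥Q ⧸ K)) with mul_comm := fun a b => hc.is_comm.comm a b }
        have hker := Abelianization.commutator_subset_ker (QuotientGroup.mk' K)
        rw [hperf, QuotientGroup.ker_mk'] at hker
        have htop : K = ⊤ := top_le_iff.1 hker
        obtain ⟨a, b, hab⟩ := exists_pair_ne (↥Q ⧸ K)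
        obtain ⟨a, rfl⟩ := QuotientGroup.mk'_surjective K a
        obtain ⟨b, rfl⟩ := QuotientGroup.mk'_surjective K b
        exact hab ((QuotientGroup.eq).2 (htop ▸ mem_top _))
      have hnd := hblock M hKs hna
        ((QuotientGroup.mk' K).comp (((QuotientGroup.mk' N).comp M.subtype).codRestrict Q fun a =>
          mem_map_of_mem _ a.2)) ((QuotientGroup.mk'_surjective K).comp fun q => by
            obtain ⟨q, hq⟩ := q
            obtain ⟨a, ha, rfl⟩ := hq
            exact ⟨⟨a, ha⟩, rfl⟩) p hpπ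
      refine (QuotientGroup.eq_one_iff y).1 (orderOf_eq_one_iff.1 ?_)
      refine ((Nat.dvd_prime hp).1 (hy ▸ orderOf_map_dvd (QuotientGroup.mk' K) y)).resolve_right fun e => hnd ?_
      exact e ▸ _root_.orderOf_dvd_natCard _
    rcases hchar I hIc with e | e
    · rw [e, mem_bot] at hyI; exact hy1 hyI
    · obtain ⟨K, hK⟩ : ∃ K, Maximal (fun K : Subgroup ↥Q => K.Normal ∧ K ≠ ⊤) K :=
        Set.Finite.exists_maximal (s := {K : Subgroup ↥Q | K.Normal ∧ K ≠ ⊤}) (Set.toFinite _)
          ⟨⊥, inferInstance, bot_ne_top⟩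
      haveI := hK.prop.1
      haveI : Nontrivial (↥Q ⧸ K) := QuotientGroup.nontrivial_iff.2 hK.prop.2
      have hs : IsSimpleGroup (↥Q ⧸ K) := by
        refine ⟨fun J hJ => ?_⟩
        by_cases hJt : J = ⊤
        · exact Or.inr hJt
        · left
          have hle : K ≤ J.comap (QuotientGroup.mk' K) := fun a ha => by
            rw [mem_comap, show QuotientGroup.mk' K a = 1 from (QuotientGroup.eq_one_iff a).2 ha]; exact one_mem J
          have := hK.eq_of_le ⟨hJ.comap _, fun h => hJt (by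
            rw [← map_comap_eq_self_of_surjective (QuotientGroup.mk'_surjective K) J, h, ← MonoidHom.range_eq_map,
              MonoidHom.range_eq_top.2 (QuotientGroup.mk'_surjective K)])⟩ hle
          rw [← map_comap_eq_self_of_surjective (QuotientGroup.mk'_surjective K) J, ← this, QuotientGroup.map_mk'_self]
      have hmem : I ≤ K := hI ▸ sInf_le ⟨hK.prop.1, hs⟩
      exact hK.prop.2 (top_le_iff.1 (e ▸ hmem))
  -- abelian, so a `p`-group
  have hab : commutator ↥Q = ⊥ := (hchar _ inferInstance).resolve_right hcommQ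
  have hc : ∀ a b : ↥Q, a * b = b * a := fun a b => by
    have := commutator_mem_commutator (mem_top a) (mem_top b)
    rw [← _root_.commutator_def, hab, mem_bot, commutatorElement_eq_one_iff_mul_comm] at this
    exact this
  obtain ⟨P, hP⟩ : ∃ P : Subgroup ↥Q, ∀ a, a ∈ P ↔ a ^ p = 1 :=
    ⟨{ carrier := {a | a ^ p = 1}
       mul_mem' := fun {a b} ha hb => by
        show (a * b) ^ p = 1
        rw [(show Commute a b from hc a b).mul_pow, show a ^ p = 1 from ha, show b ^ p = 1 from hb, one_mul]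
       one_mem' := one_pow p
       inv_mem' := fun {a} ha => by show a⁻¹ ^ p = 1; rw [inv_pow, show a ^ p = 1 from ha, inv_one] }, fun _ => Iff.rfl⟩
  have hPc : P.Characteristic := characteristic_iff_le_comap.2 fun φ a ha => by
    rw [mem_comap, hP]
    show φ a ^ p = 1
    rw [← map_pow, (hP a).1 ha, map_one]
  have hPt : P = ⊤ := (hchar P hPc).resolve_left fun e => hy1 (by
    have : y ∈ P := (hP y).2 (hy ▸ pow_orderOf_eq_one y)
    rwa [e, mem_bot] at this)
  have hpg : IsPGroup p ↥Q := fun a => ⟨1, by rw [pow_one]; exact (hP a).1 (hPt ▸ mem_top a)⟩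
  intro q hq hqd
  rw [← hQc] at hqd
  obtain ⟨k, hk⟩ := hpg.exists_card_eq
  rw [hk] at hqd
  rwa [(Nat.prime_dvd_prime_iff_eq hq hp).1 (hq.dvd_of_dvd_pow hqd)]
theorem exists_chain (hodd : ∀ p ∈ π, p.Prime ∧ p ≠ 2) (hblock : NoPiFactor π G) :
    ∀ (k : ℕ) (N : Subgroup G), N.Normal → N.index = k → ∃ (n : ℕ) (H : Fin (n + 1) → Subgroup G),
      H 0 = N ∧ H (Fin.last n) = ⊤ ∧ Monotone H ∧ (∀ i, (H i).Normal) ∧
      ∀ i : Fin n, PiNat π ((H i.castSucc).relIndex (H i.succ)) ∨
        ∀ q : ℕ, q.Prime → q ∣ (H i.castSucc).relIndex (H i.succ) → q ∉ π := by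
  intro k
  induction k using Nat.strong_induction_on with
  | _ k ih =>
    intro N hN hk
    by_cases hNt : N = ⊤
    · subst hNt
      exact ⟨0, fun _ => ⊤, rfl, rfl, monotone_const, fun _ => hN, fun i => i.elim0⟩
    obtain ⟨M, hM⟩ : ∃ M, Minimal (fun M : Subgroup G => M.Normal ∧ N < M) M :=
      Set.Finite.exists_minimal (s := {M : Subgroup G | M.Normal ∧ N < M}) (Set.toFinite _)
        ⟨⊤, inferInstance, lt_top_iff_ne_top.2 hNt⟩
    haveI := hM.prop.1
    obtain ⟨n, H, h0, hl, hmono, hn, hi⟩ := ih M.index (hk ▸ Subgroup.index_strictAnti hM.prop.2) M hM.prop.1 rfl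
    refine ⟨n + 1, Fin.cons N H, rfl, by rw [← Fin.succ_last, Fin.cons_succ, hl], ?_, ?_, ?_⟩
    · refine Fin.monotone_iff_le_succ.2 fun i => ?_
      cases i using Fin.cases with
      | zero => rw [Fin.castSucc_zero, Fin.cons_zero, Fin.cons_succ, h0]; exact hM.prop.2.le
      | succ j => rw [← Fin.succ_castSucc, Fin.cons_succ, Fin.cons_succ]; exact hmono (Fin.castSucc_le_succ j)
    · intro i
      cases i using Fin.cases with
      | zero => rw [Fin.cons_zero]; exact hN
      | succ j => rw [Fin.cons_succ]; exact hn j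
    · intro i
      cases i using Fin.cases with
      | zero =>
        rw [Fin.castSucc_zero, Fin.cons_zero, Fin.cons_succ, h0]
        haveI := hN
        exact pi_or_copi hodd hblock hM.prop.2 fun K hK hlt hle => le_antisymm hle (hM.le_of_le ⟨hK, hlt⟩ hle)
      | succ j => rw [← Fin.succ_castSucc, Fin.cons_succ, Fin.cons_succ]; exact hi j

/-- **S4047** from the list -/
theorem piPrimeClosed_of_list (hL : CfsgLib.Walter.WalterList.{u}) (hodd : ∀ p ∈ π, p.Prime ∧ p ≠ 2)
    (h2 : ∀ S : Sylow 2 G, IsMulCommutative S ∨ ∃ n : ℕ, Nonempty ((S : Subgroup G) ≃* DihedralGroup n))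
    (hhom : Homog π G) :
    ∃ K : Subgroup G, ∀ x : G, x ∈ K ↔ ∀ p : ℕ, p.Prime → p ∣ orderOf x → p ∉ π := by
  have hshape : ∀ S : Sylow 2 G, TwoShape (S : Subgroup G) := fun S => (h2 S).elim
    (fun h => Or.inl fun a b => h.is_comm.comm a b) fun ⟨n, ⟨e⟩⟩ => twoShape_dihedral e
  have hblock : NoPiFactor π G := by
    intro M _ X _ hs hna f hf p hpπ hd
    haveI := hs
    haveI : Finite X := Finite.of_surjective f hf
    exact not_mem_of_obstructed (hhom.subgroup M) hodd f hf
      (simple_obstructed hL X hna (twoShape_factor hshape M f hf) (hodd p hpπ).1 (hodd p hpπ).2 hd) hpπ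
  obtain ⟨n, H, h0, hl, hm, hn, hi⟩ := exists_chain hodd hblock _ ⊥ inferInstance rfl
  obtain ⟨hC, hdom⟩ := CfsgLib.OddGated.hall_separable
    (fun K _ _ ho => Cfsg.Agent.S0205.result ho) _ G rfl ⟨n, H, h0, hl, hm, hn, hi⟩
  refine CfsgLib.PiHomogeneous.pi_prime_closed (fun p hp => (hodd p hp).1) (fun A B hA hB => ?_) hhom
  obtain ⟨HA, hHA, hAle⟩ := hdom A hA.prop
  obtain ⟨HB, hHB, hBle⟩ := hdom B hB.prop
  rw [hA.eq_of_le hHA.1 hAle, hB.eq_of_le hHB.1 hBle]
  exact hC.2 HA HB hHA hHB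

end CfsgLib.Recog.ReeType
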