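import Cfsg.Agent.Lib.Classical.SL2Sylow
import Cfsg.Agent.Lib.Core.TwoTimesPSL.SingerField

/-!
Owner: helper9. A normal subgroup `SL(2, 2 ^ n)` of a group with abelian Sylow 2-subgroups in which the four-groups
are conjugate: `2 ^ n - 2` divides `6 n`, so `n ∈ {2, 3, 5}`.
-/

set_option autoImplicit false
set_option linter.all false
set_option maxHeartbeats 800000

namespace CfsgLib.Recog.ReeType

open Subgroup Matrix
open scoped MatrixGroups Pointwise

universe u

section Count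

variable {V : Type*} [CommGroup V] [Finite V]

/-- the subgroup `{1, a, b, a b}` -/
def fourOf (h2 : ∀ x : V, x * x = 1) (a b : V) : Subgroup V where
  carrier := {x | x = 1 ∨ x = a ∨ x = b ∨ x = a * b}
  one_mem' := Or.inl rfl
  mul_mem' {x y} hx hy := by
    have h3 : ∀ u v : V, u * (u * v) = v := fun u v => by rw [← mul_assoc, h2, one_mul]
    rcases hx with rfl | rfl | rfl | rfl <;> rcases hy with rfl | rfl | rfl | rfl <;>
      simp [Set.mem_setOf_eq, h2, h3, mul_comm, mul_left_comm, mul_assoc]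
  inv_mem' {x} hx := by rwa [inv_eq_of_mul_eq_one_right (h2 x)]

theorem card_fourOf (h2 : ∀ x : V, x * x = 1) {a b : V} (ha : a ≠ 1) (hb : b ≠ 1) (hab : a ≠ b) :
    Nat.card (fourOf h2 a b) = 4 := by
  classical
  have h : ((fourOf h2 a b : Subgroup V) : Set V) = ↑({1, a, b, a * b} : Finset V) := by
    ext x; simp [fourOf]
  have e1 : a * b ≠ 1 := fun e => hab ((eq_inv_of_mul_eq_one_left e).trans (inv_eq_of_mul_eq_one_right (h2 b)))
  have e2 : a * b ≠ a := fun e => hb (mul_left_cancel (e.trans (mul_one a).symm))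
  have e3 : a * b ≠ b := fun e => ha (mul_right_cancel (e.trans (one_mul b).symm))
  rw [← SetLike.coe_sort_coe, h, Nat.card_coe_set_eq, Set.ncard_coe_finset]
  simp [ha.symm, hb.symm, hab, e1.symm, e2.symm, e3.symm]

/-- six ordered bases in each four-group -/
theorem six_mul_card_fours (h2 : ∀ x : V, x * x = 1) :
    6 * Nat.card {E : Subgroup V // Nat.card E = 4} = (Nat.card V - 1) * (Nat.card V - 2) := by
  classical
  haveI := Fintype.ofFinite V
  haveI := Fintype.ofFinite {E : Subgroup V // Nat.card E = 4}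
  let P : Finset (V × V) := (Finset.univ.erase (1 : V)).offDiag
  let F : {E : Subgroup V // Nat.card E = 4} → Finset (V × V) := fun E =>
    ((Finset.univ.filter fun x => x ∈ E.1).erase 1).offDiag
  have hmemF : ∀ E p, p ∈ F E ↔ (p.1 ≠ 1 ∧ p.1 ∈ E.1) ∧ (p.2 ≠ 1 ∧ p.2 ∈ E.1) ∧ p.1 ≠ p.2 := fun E p => by
    simp [F, Finset.mem_offDiag]
  have hle : ∀ E p, p ∈ F E → fourOf h2 p.1 p.2 = E.1 := fun E p hp => by
    obtain ⟨⟨ha, haE⟩, ⟨hb, hbE⟩, hab⟩ := (hmemF E p).1 hp
    refine Subgroup.eq_of_le_of_card_ge ?_ (by rw [card_fourOf h2 ha hb hab, E.2])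
    intro x hx
    rcases hx with rfl | rfl | rfl | rfl
    exacts [one_mem _, haE, hbE, mul_mem haE hbE]
  have hbi : P = Finset.univ.biUnion F := by
    ext p
    simp only [Finset.mem_biUnion, Finset.mem_univ, true_and]
    constructor
    · intro hp
      simp only [P, Finset.mem_offDiag, Finset.mem_erase, Finset.mem_univ, and_true] at hp
      refine ⟨⟨fourOf h2 p.1 p.2, card_fourOf h2 hp.1 hp.2.1 hp.2.2⟩, (hmemF _ p).2 ?_⟩
      exact ⟨⟨hp.1, Or.inr (Or.inl rfl)⟩, ⟨hp.2.1, Or.inr (Or.inr (Or.inl rfl))⟩, hp.2.2⟩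
    · rintro ⟨E, hE⟩
      obtain ⟨⟨ha, -⟩, ⟨hb, -⟩, hab⟩ := (hmemF E p).1 hE
      simp [P, Finset.mem_offDiag, ha, hb, hab]
  have h6 : ∀ E, (F E).card = 6 := fun E => by
    have h : ((Finset.univ.filter fun x => x ∈ E.1).erase (1 : V)).card = 3 := by
      rw [Finset.card_erase_of_mem (by simp), ← Fintype.card_subtype, ← Nat.card_eq_fintype_card]
      have := E.2
      omega
    rw [Finset.offDiag_card, h]
  have hP := congrArg Finset.card hbi
  rw [Finset.card_biUnion (fun E _ E' _ hne => Finset.disjoint_left.2 fun p hp hp' =>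
    hne (Subtype.ext ((hle E p hp).symm.trans (hle E' p hp')))), Finset.sum_const_nat (fun E _ => h6 E),
    Finset.card_univ, ← Nat.card_eq_fintype_card] at hP
  simp only [P, Finset.offDiag_card, Finset.card_erase_of_mem (Finset.mem_univ _), Finset.card_univ,
    ← Nat.card_eq_fintype_card (α := V)] at hP
  rw [mul_comm, ← hP, ← Nat.mul_sub_one]
  congr 1

/-- a group of automorphisms transitive on four-groups, containing and normalising a Singer cycle -/
theorem dvd_of_trans_fours (h2 : ∀ x : V, x * x = 1) {n : ℕ} (hn : Nat.card V = 2 ^ n) (hn2 : 2 ≤ n)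
    (A : Subgroup (MulAut V)) {w : MulAut V} (hwA : w ∈ A)
    (hw : ∀ x : V, x ≠ 1 → ∀ y : V, y ≠ 1 → ∃ k : ℕ, (w ^ k) x = y)
    (hnorm : ∀ f ∈ A, ∃ k : ℕ, f * w * f⁻¹ = w ^ k)
    (htrans : ∀ E E' : Subgroup V, Nat.card E = 4 → Nat.card E' = 4 → ∃ f ∈ A, E.map (f : MulAut V).toMonoidHom = E') :
    2 ^ n - 2 ∣ 6 * n := by
  classical
  have hq : 4 ≤ Nat.card V := by
    rw [hn]
    calc 4 = 2 ^ 2 := rfl
      _ ≤ _ := Nat.pow_le_pow_right two_pos hn2
  obtain ⟨p, hp⟩ : ∃ p : V, p ≠ 1 := by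
    by_contra h
    push Not at h
    rw [Nat.card_eq_one_iff_exists.2 ⟨1, h⟩] at hq
    omega
  obtain ⟨b, hb, hbp⟩ : ∃ b : V, b ≠ 1 ∧ b ≠ p := by
    by_contra h
    push Not at h
    haveI := Fintype.ofFinite V
    have hle : (Finset.univ : Finset V).card ≤ ({1, p} : Finset V).card := Finset.card_le_card fun x _ => by
      by_cases hx : x = 1
      · simp [hx]
      · simp [h x hx]
    rw [Finset.card_univ, ← Nat.card_eq_fintype_card] at hle
    have := hle.trans Finset.card_le_two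
    omega
  -- the orbit and the stabiliser of a point
  have horb : MulAction.orbit A p = {x : V | x ≠ 1} := by
    ext x
    constructor
    · rintro ⟨f, rfl⟩ h
      exact hp ((f : MulAut V).injective (h.trans (map_one _).symm))
    · intro hx
      obtain ⟨k, hk⟩ := hw p hp x hx
      exact ⟨⟨w ^ k, pow_mem hwA k⟩, hk⟩
  have hd : Nat.card (MulAction.stabilizer A p) ∣ n := by
    refine (CfsgLib.Core.TwoTimesPSL.normalizer_data (A.subtype.comp (MulAction.stabilizer A p).subtype)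
      (A.subtype_injective.comp (Subgroup.subtype_injective _)) hp hw h2 hn (fun f => f.2)
      (fun f => hnorm _ f.1.2)).2.1
  obtain ⟨d, hd'⟩ := hd
  have hA : Nat.card A = (Nat.card V - 1) * Nat.card (MulAction.stabilizer A p) := by
    have hi := (MulAction.stabilizer A p).card_mul_index
    rw [MulAction.index_stabilizer] at hi
    rw [← hi, mul_comm]
    congr 1
    rw [horb]
    haveI := Fintype.ofFinite V
    rw [show {x : V | x ≠ 1} = ↑(Finset.univ.erase (1 : V)) by ext x; simp, Set.ncard_coe_finset,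
      Finset.card_erase_of_mem (Finset.mem_univ _), Finset.card_univ, Nat.card_eq_fintype_card]
  -- the orbit of a four-group
  set E0 := fourOf h2 p b
  have hE0 : Nat.card E0 = 4 := card_fourOf h2 hp hb hbp.symm
  have horbE : MulAction.orbit A E0 = {E : Subgroup V | Nat.card E = 4} := by
    ext E
    constructor
    · rintro ⟨f, rfl⟩
      show Nat.card (f • E0 : Subgroup V) = 4
      exact (Subgroup.card_map_of_injective (f : MulAut V).injective).trans hE0
    · intro hE
      obtain ⟨f, hf, hfE⟩ := htrans E0 E hE0 hE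
      exact ⟨⟨f, hf⟩, hfE⟩
  have hdvd : Nat.card {E : Subgroup V // Nat.card E = 4} ∣ Nat.card A := by
    rw [show Nat.card {E : Subgroup V // Nat.card E = 4} = ({E : Subgroup V | Nat.card E = 4} : Set _).ncard from
      Nat.card_coe_set_eq _, ← horbE, ← MulAction.index_stabilizer]
    exact Subgroup.index_dvd_card _
  have h6 := Nat.mul_dvd_mul_left 6 hdvd
  rw [six_mul_card_fours h2, hA, mul_left_comm 6] at h6
  have h7 := Nat.dvd_of_mul_dvd_mul_left (show 0 < Nat.card V - 1 by omega) h6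
  rw [hn] at h7
  exact h7.trans (mul_dvd_mul_left 6 ⟨d, hd'⟩)

theorem n_cases {n : ℕ} (hn2 : 2 ≤ n) (h : 2 ^ n - 2 ∣ 6 * n) : n = 2 ∨ n = 3 ∨ n = 5 := by
  have hle := Nat.le_of_dvd (by omega) h
  have hgt : ∀ k, 6 ≤ k → 6 * k + 2 < 2 ^ k := by
    intro k hk
    induction k, hk using Nat.le_induction with
    | base => norm_num
    | succ k hk ih => rw [pow_succ]; omega
  rcases le_or_gt 6 n with h6 | h6
  · have := hgt n h6
    omega
  · interval_cases n <;> first | omega | (norm_num at h)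

end Count

section SL

variable {F : Type*} [Field F]

/-- unipotent upper triangular -/
def upF : Multiplicative F →* SL(2, F) where
  toFun x := ⟨!![1, x.toAdd; 0, 1], by simp [Matrix.det_fin_two_of]⟩
  map_one' := by
    apply Subtype.ext
    simp [Matrix.one_fin_two]
  map_mul' x y := by
    apply Subtype.ext
    show !![1, (x * y).toAdd; 0, 1] = (!![1, x.toAdd; 0, 1] * !![1, y.toAdd; 0, 1] : Matrix (Fin 2) (Fin 2) F)
    simp [Matrix.mul_fin_two, add_comm]

theorem upF_coe (x : Multiplicative F) : (upF x : SL(2, F)).1 = !![1, x.toAdd; 0, 1] := rfl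

/-- diagonal -/
def diagF (a : Fˣ) : SL(2, F) := ⟨!![(a : F), 0; 0, ((a⁻¹ : Fˣ) : F)], by simp [Matrix.det_fin_two_of]⟩

theorem upF_injective : Function.Injective (upF (F := F)) := fun x y h => by
  have := congrArg (fun z : SL(2, F) => z.1 0 1) h
  simpa [upF_coe] using this

theorem conj_upF_entries (z : SL(2, F)) (x : Multiplicative F) :
    (z * upF x * z⁻¹).1 1 0 = -(z.1 1 0 ^ 2 * x.toAdd) ∧ (z * upF x * z⁻¹).1 0 1 = z.1 0 0 ^ 2 * x.toAdd := by
  rw [Matrix.SpecialLinearGroup.coe_mul, Matrix.SpecialLinearGroup.coe_mul, Matrix.SpecialLinearGroup.coe_inv,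
    Matrix.adjugate_fin_two, upF_coe]
  simp [Matrix.mul_apply, Fin.sum_univ_two]
  constructor <;> ring

theorem upper_of_normalize {z : SL(2, F)} (hz : z * upF (Multiplicative.ofAdd 1) * z⁻¹ ∈ (upF (F := F)).range)
    (x : Multiplicative F) : z * upF x * z⁻¹ = upF (Multiplicative.ofAdd (z.1 0 0 ^ 2 * x.toAdd)) ∧ z.1 0 0 ≠ 0 := by
  obtain ⟨y, hy⟩ := hz
  have h10 : z.1 1 0 = 0 := by
    have h := congrArg (fun w : SL(2, F) => w.1 1 0) hy
    simp only [upF_coe] at h
    rw [(conj_upF_entries z _).1] at h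
    simpa using h.symm
  have hdet : z.1 0 0 * z.1 1 1 = 1 := by
    have h := z.2
    rw [Matrix.det_fin_two, h10] at h
    simpa using h
  refine ⟨?_, left_ne_zero_of_mul_eq_one hdet⟩
  apply Subtype.ext
  rw [Matrix.SpecialLinearGroup.coe_mul, Matrix.SpecialLinearGroup.coe_mul, Matrix.SpecialLinearGroup.coe_inv,
    Matrix.adjugate_fin_two, upF_coe, upF_coe]
  ext i j
  fin_cases i <;> fin_cases j <;> simp [Matrix.mul_apply, Fin.sum_univ_two, h10, hdet]
  · ring
  · linear_combination hdet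

theorem diagF_conj (a : Fˣ) (x : Multiplicative F) :
    diagF a * upF x * (diagF a)⁻¹ = upF (Multiplicative.ofAdd ((a : F) ^ 2 * x.toAdd)) := by
  apply Subtype.ext
  rw [Matrix.SpecialLinearGroup.coe_mul, Matrix.SpecialLinearGroup.coe_mul, Matrix.SpecialLinearGroup.coe_inv,
    Matrix.adjugate_fin_two, upF_coe, upF_coe]
  ext i j
  fin_cases i <;> fin_cases j <;> simp [diagF, Matrix.mul_apply, Fin.sum_univ_two]
  · ring

end SL

/-- **`n ∈ {2, 3, 5}`** -/
theorem degree_of_fours {G : Type u} [Group G] [Finite G] (hab : ∀ S : Sylow 2 G, IsMulCommutative (S : Subgroup G))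
    (hfour : ∀ A B : Subgroup G, IsMulCommutative A → IsMulCommutative B → Nat.card A = Nat.card B →
      ∃ g : G, B = A.map (MulAut.conj g).toMonoidHom)
    (M : Subgroup G) [M.Normal] {F : Type*} [Field F] [Fintype F] [CharP F 2] {n : ℕ} (hn : 2 ≤ n)
    (hF : Fintype.card F = 2 ^ n) (e : M ≃* SL(2, F)) : n = 2 ∨ n = 3 ∨ n = 5 := by
  classical
  haveI : Fact (Nat.Prime 2) := ⟨Nat.prime_two⟩
  let ι : Multiplicative F →* G := M.subtype.comp (e.symm.toMonoidHom.comp upF)
  have hιinj : Function.Injective ι := M.subtype_injective.comp (e.symm.injective.comp upF_injective)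
  set V : Subgroup G := ι.range with hV
  have hVM : V ≤ M := by rintro _ ⟨x, rfl⟩; exact (e.symm (upF x)).2
  have hcardV : Nat.card V = 2 ^ n := by
    rw [← Nat.card_congr (MonoidHom.ofInjective hιinj).toEquiv, ← hF, ← Nat.card_eq_fintype_card]
    exact Nat.card_congr Multiplicative.toAdd
  have hV2 : IsPGroup 2 V := IsPGroup.of_card hcardV
  letI : CommGroup V := { (inferInstance : Group V) with
    mul_comm := by
      rintro ⟨_, x, rfl⟩ ⟨_, y, rfl⟩
      exact Subtype.ext (by simp [← map_mul, mul_comm]) }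
  have h2 : ∀ x : V, x * x = 1 := by
    rintro ⟨_, x, rfl⟩
    refine Subtype.ext ?_
    show ι x * ι x = 1
    rw [← map_mul, show x * x = 1 from Multiplicative.toAdd.injective (CharTwo.add_self_eq_zero _), map_one]
  -- `V` is the intersection of `M` with a Sylow 2-subgroup
  have hmax : ∀ S : Sylow 2 G, V ≤ S → (S : Subgroup G) ⊓ M = V := by
    intro S hS
    refine le_antisymm ?_ (le_inf hS hVM)
    set Q := (S : Subgroup G) ⊓ M with hQ
    obtain ⟨k, hk⟩ := (S.isPGroup'.to_le (inf_le_left : Q ≤ S)).exists_card_eq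
    have hdvd : Nat.card Q ∣ Nat.card M := Subgroup.card_dvd_of_le inf_le_right
    rw [hk, Nat.card_congr e.toEquiv, CfsgLib.Classical.Two.card_SL_two, hF] at hdvd
    have hcop : Nat.Coprime (2 ^ k) ((2 ^ n) ^ 2 - 1) := by
      refine Nat.Coprime.pow_left k (Nat.prime_two.coprime_iff_not_dvd.2 ?_)
      have h4 : 2 ∣ (2 ^ n) ^ 2 := dvd_pow (dvd_pow_self 2 (by omega)) two_ne_zero
      have : 0 < (2 ^ n) ^ 2 := by positivity
      omega
    have hle := Nat.le_of_dvd (by positivity) (hcop.dvd_of_dvd_mul_right hdvd)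
    exact (Subgroup.eq_of_le_of_card_ge (le_inf hS hVM) (by rw [hcardV, hk]; exact hle)).ge
  set χ := Subgroup.normalizerMonoidHom V with hχ
  set A := χ.range with hA
  have hact : ∀ (z : SL(2, F)) (hz : (e.symm z : G) ∈ normalizer (V : Set G)) (x : Multiplicative F),
      ((χ ⟨_, hz⟩ ⟨ι x, x, rfl⟩ : V) : G) = (e.symm (z * upF x * z⁻¹) : G) := fun z hz x => by
    rw [map_mul, map_mul, map_inv]; rfl
  have hupper : ∀ (z : SL(2, F)), (e.symm z : G) ∈ normalizer (V : Set G) → ∀ x : Multiplicative F,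
      z * upF x * z⁻¹ = upF (Multiplicative.ofAdd (z.1 0 0 ^ 2 * x.toAdd)) ∧ z.1 0 0 ≠ 0 := by
    intro z hz x
    refine upper_of_normalize ?_ x
    obtain ⟨y, hy⟩ := (mem_normalizer_iff.1 hz _).1 ⟨Multiplicative.ofAdd 1, rfl⟩
    refine ⟨y, e.symm.injective (Subtype.ext ?_)⟩
    rw [map_mul, map_mul, map_inv]
    exact hy
  obtain ⟨g0, hg0⟩ := IsCyclic.exists_generator (α := Fˣ)
  have hd : (e.symm (diagF g0) : G) ∈ normalizer (V : Set G) := by
    refine mem_normalizer_fintype ?_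
    rintro _ ⟨x, rfl⟩
    refine ⟨Multiplicative.ofAdd ((g0 : F) ^ 2 * x.toAdd), ?_⟩
    show (e.symm (upF _) : G) = _
    rw [← diagF_conj, map_mul, map_mul, map_inv]; rfl
  set w := χ ⟨_, hd⟩ with hw
  have hwk : ∀ (k : ℕ) (x : Multiplicative F), (((w ^ k) ⟨ι x, x, rfl⟩ : V) : G) =
      ι (Multiplicative.ofAdd (((g0 : F) ^ 2) ^ k * x.toAdd)) := by
    intro k
    induction k with
    | zero => intro x; simp
    | succ k ih =>
      intro x
      rw [pow_succ']
      show ((w ((w ^ k) ⟨ι x, x, rfl⟩) : V) : G) = _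
      rw [show (w ^ k) ⟨ι x, x, rfl⟩ = ⟨ι (Multiplicative.ofAdd (((g0 : F) ^ 2) ^ k * x.toAdd)), _, rfl⟩ from
        Subtype.ext (ih x), hw, hact, diagF_conj]
      show ι _ = ι _
      congr 2
      rw [pow_succ' ((g0 : F) ^ 2) k, mul_assoc]
      rfl
  have htr : ∀ x : V, x ≠ 1 → ∀ y : V, y ≠ 1 → ∃ k : ℕ, (w ^ k) x = y := by
    rintro ⟨_, x, rfl⟩ hx ⟨_, y, rfl⟩ hy
    have hx0 : x.toAdd ≠ 0 := fun h => hx (Subtype.ext (by show ι x = 1; rw [show x = 1 from h, map_one]))
    have hy0 : y.toAdd ≠ 0 := fun h => hy (Subtype.ext (by show ι y = 1; rw [show y = 1 from h, map_one]))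
    obtain ⟨a, ha⟩ := isSquare_of_charTwo' (y.toAdd / x.toAdd)
    have ha0 : a ≠ 0 := fun h => div_ne_zero hy0 hx0 (by rw [ha, h, mul_zero])
    obtain ⟨k, hk⟩ : Units.mk0 a ha0 ∈ Submonoid.powers g0 := by
      rw [mem_powers_iff_mem_zpowers]; exact hg0 _
    refine ⟨k, Subtype.ext ?_⟩
    rw [hwk]
    show ι _ = ι y
    congr 1
    have hk' : (g0 : F) ^ k = a := by
      have := congrArg (Units.val) (show g0 ^ k = Units.mk0 a ha0 from hk)
      simpa using this
    rw [← pow_mul (g0 : F) 2 k, mul_comm 2 k, pow_mul, hk', pow_two, ← ha, div_mul_cancel₀ _ hx0, ofAdd_toAdd]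
  refine n_cases hn (dvd_of_trans_fours h2 hcardV hn A ⟨_, rfl⟩ htr ?_ ?_)
  · rintro _ ⟨⟨g, hg⟩, rfl⟩
    set z := e ⟨g * (e.symm (diagF g0) : G) * g⁻¹, Subgroup.Normal.conj_mem inferInstance _ (e.symm (diagF g0)).2 g⟩
      with hz
    have hzg : (e.symm z : G) = g * (e.symm (diagF g0) : G) * g⁻¹ := by rw [hz, e.symm_apply_apply]
    have hzn : (e.symm z : G) ∈ normalizer (V : Set G) := by
      rw [hzg]; exact mul_mem (mul_mem hg hd) (inv_mem hg)
    have hz0 := (hupper z hzn 1).2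
    obtain ⟨k, hk⟩ : Units.mk0 _ hz0 ∈ Submonoid.powers g0 := by
      rw [mem_powers_iff_mem_zpowers]; exact hg0 _
    refine ⟨k, ?_⟩
    have heq : χ ⟨g, hg⟩ * w * (χ ⟨g, hg⟩)⁻¹ = χ ⟨_, hzn⟩ := by
      rw [hw, ← map_inv, ← map_mul, ← map_mul]
      congr 1
      exact Subtype.ext hzg.symm
    rw [heq]
    refine MulEquiv.ext fun v => ?_
    obtain ⟨_, x, rfl⟩ := v
    refine Subtype.ext ?_
    rw [hact, (hupper z hzn x).1, hwk]
    have hk' : (g0 : F) ^ k = z.1 0 0 := by
      have := congrArg (Units.val) (show g0 ^ k = Units.mk0 _ hz0 from hk)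
      simpa using this
    show ι _ = ι _
    rw [← pow_mul, mul_comm 2, pow_mul, hk']
  · intro E E' hE hE'
    set A1 := E.map V.subtype with hA1
    set A2 := E'.map V.subtype with hA2
    have comm : ∀ B : Subgroup G, B ≤ V → IsMulCommutative B := fun B hB => ⟨⟨fun a b => Subtype.ext
      (show (a : G) * b = b * a from congrArg Subtype.val (mul_comm (⟨a, hB a.2⟩ : V) ⟨b, hB b.2⟩))⟩⟩
    obtain ⟨g, hg⟩ := hfour A1 A2 (comm _ (map_subtype_le _)) (comm _ (map_subtype_le _))
      (by rw [hA1, hA2, Subgroup.card_map_of_injective V.subtype_injective,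
        Subgroup.card_map_of_injective V.subtype_injective, hE, hE'])
    obtain ⟨S, hS⟩ := hV2.exists_le_sylow
    have hSc : ∀ (T : Sylow 2 G) (a b : G), a ∈ (T : Subgroup G) → b ∈ (T : Subgroup G) → a * b = b * a :=
      fun T a b ha hb => congrArg Subtype.val ((hab T).is_comm.comm ⟨a, ha⟩ ⟨b, hb⟩)
    set C := centralizer (A2 : Set G) with hC
    have hS1 : (S : Subgroup G) ≤ C := fun s hs => mem_centralizer_iff.2 fun a ha =>
      hSc S a s (hS (map_subtype_le _ ha)) hs
    have hS2 : ((g • S : Sylow 2 G) : Subgroup G) ≤ C := by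
      intro s hs
      rw [Sylow.coe_subgroup_smul] at hs
      refine mem_centralizer_iff.2 fun a ha => ?_
      rw [hg] at ha
      obtain ⟨a0, ha0, rfl⟩ := ha
      obtain ⟨s0, hs0, rfl⟩ := hs
      show g * a0 * g⁻¹ * (g * s0 * g⁻¹) = g * s0 * g⁻¹ * (g * a0 * g⁻¹)
      rw [show g * a0 * g⁻¹ * (g * s0 * g⁻¹) = g * (a0 * s0) * g⁻¹ by group,
        hSc S a0 s0 (hS (map_subtype_le _ ha0)) hs0]
      group
    obtain ⟨c, hc⟩ := MulAction.exists_smul_eq C ((g • S : Sylow 2 G).subtype hS2) (S.subtype hS1)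
    have hfix : ((c : G) * g) • S = S := by
      refine Sylow.subtype_injective (hP := ?_) (hQ := hS1) ?_
      · intro s hs
        rw [mul_smul, Sylow.coe_subgroup_smul] at hs
        obtain ⟨s0, hs0, rfl⟩ := hs
        exact C.mul_mem (C.mul_mem c.2 (hS2 hs0)) (C.inv_mem c.2)
      · rw [← hc, Sylow.smul_subtype]
        congr 1
        exact mul_smul _ _ _
    set m := (c : G) * g with hm
    have hmS : ∀ s ∈ (S : Subgroup G), m * s * m⁻¹ ∈ (S : Subgroup G) := fun s hs => by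
      rw [← hfix, Sylow.coe_subgroup_smul]
      exact Subgroup.smul_mem_pointwise_smul _ _ _ hs
    have hmN : m ∈ normalizer (V : Set G) := by
      refine mem_normalizer_fintype fun v hv => ?_
      have h : m * v * m⁻¹ ∈ (S : Subgroup G) ⊓ M :=
        ⟨hmS v (hS hv), Subgroup.Normal.conj_mem inferInstance v (hVM hv) m⟩
      rwa [hmax S hS] at h
    refine ⟨χ ⟨m, hmN⟩, ⟨_, rfl⟩, ?_⟩
    refine Subgroup.map_injective V.subtype_injective ?_
    show (E.map _).map _ = A2
    rw [hg, hA1, Subgroup.map_map, Subgroup.map_map]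
    refine le_antisymm ?_ ?_
    · rintro _ ⟨v, hv, rfl⟩
      refine ⟨v, hv, ?_⟩
      show g * (v : G) * g⁻¹ = m * (v : G) * m⁻¹
      have hmem : g * (v : G) * g⁻¹ ∈ A2 := by rw [hg]; exact ⟨_, ⟨v, hv, rfl⟩, rfl⟩
      have h := mem_centralizer_iff.1 c.2 _ hmem
      rw [hm, show (c : G) * g * (v : G) * ((c : G) * g)⁻¹ = (c : G) * (g * (v : G) * g⁻¹) * (c : G)⁻¹ by group, ← h,
        mul_inv_cancel_right]
    · rintro _ ⟨v, hv, rfl⟩
      refine ⟨v, hv, ?_⟩
      show m * (v : G) * m⁻¹ = g * (v : G) * g⁻¹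
      have hmem : g * (v : G) * g⁻¹ ∈ A2 := by rw [hg]; exact ⟨_, ⟨v, hv, rfl⟩, rfl⟩
      have h := mem_centralizer_iff.1 c.2 _ hmem
      rw [hm, show (c : G) * g * (v : G) * ((c : G) * g)⁻¹ = (c : G) * (g * (v : G) * g⁻¹) * (c : G)⁻¹ by group, ← h,
        mul_inv_cancel_right]

end CfsgLib.Recog.ReeType
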