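import Cfsg.Agent.Lib.Recog.JankoThompson.Ward.Local
import Cfsg.Agent.Lib.Recog.JankoThompson.Pattern
import Cfsg.Agent.Lib.Recog.JankoThompson.Chars

/-!
Owner: helper9. Groups of Ree type: the setting (a context of Janko–Thompson type with the tori, `q = 3 ^ (2m+1)`
and the order), and its arithmetic.
-/

set_option autoImplicit false
set_option linter.all false

namespace CfsgLib.Recog.ReeType

open Subgroup CfsgLib.Recog.JankoThompson

universe u v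

/-- the data of a group of Ree type -/
structure Setup (G : Type u) [Group G] (Fq : Type v) [Field Fq] [Fintype Fq] where
  c : JankoThompson.Ctx G Fq
  p : ℕ
  T : Tori Fq c.w p c.e c.f
  m : ℕ
  hm : 1 ≤ m
  hq : c.q = 3 ^ (2 * m + 1)
  hcard : Nat.card G = c.q ^ 3 * (c.q ^ 3 + 1) * (c.q - 1)

variable {G : Type u} [Group G] [Finite G] {Fq : Type v} [Field Fq] [Fintype Fq]

namespace Setup

variable (S : Setup G Fq)

/-- the size of the field -/
def q : ℕ := S.c.q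

/-- `3 ^ m`, with `q = 3 θ ^ 2` -/
def θ : ℕ := 3 ^ S.m

/-- the cofactor `q ^ 2 - q + 1` -/
def uu : ℕ := S.q * (S.q - 1) + 1

theorem q_theta : S.q = 3 * S.θ ^ 2 := by
  rw [q, S.hq, θ, ← pow_mul, mul_comm S.m 2, pow_succ']

theorem q_ge : 27 ≤ S.q := by
  rw [q, S.hq]
  calc 27 = 3 ^ 3 := by norm_num
    _ ≤ _ := Nat.pow_le_pow_right (by norm_num) (by have := S.hm; omega)

theorem q_mod : S.c.q % 4 = 3 := by
  rw [S.hq, pow_succ, pow_mul, Nat.mul_mod, Nat.pow_mod]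
  norm_num

theorem three_facts : ¬ 3 ∣ S.c.e ∧ ¬ 3 ∣ S.c.f ∧ Nat.Coprime S.c.e S.c.f ∧ S.q + 1 = 4 * S.c.e ∧
    S.q = 2 * S.c.f + 1 := S.c.three_facts S.hq S.q_mod

theorem eps : S.c.ε = -1 := by
  unfold JankoThompson.Ctx.ε
  rw [if_neg (by have := S.q_mod; omega)]

theorem uu_int : (S.uu : ℤ) = (S.q : ℤ) ^ 2 - S.q + 1 := by
  have := S.q_ge
  unfold uu
  push_cast [Nat.cast_sub (show 1 ≤ S.q by omega)]
  ring

theorem card_eq : Nat.card G = S.q ^ 3 * (S.q - 1) * (S.q + 1) * S.uu := by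
  have h1 : S.q ^ 3 + 1 = (S.q + 1) * S.uu := by
    zify
    rw [S.uu_int]
    ring
  rw [S.hcard]
  show S.q ^ 3 * (S.q ^ 3 + 1) * (S.q - 1) = _
  rw [h1]
  ring

/-- an element of order divisible by a prime divisor of `q ^ 2 - q + 1` -/
def Good (z : G) : Prop := ∃ r : ℕ, r.Prime ∧ r ∣ S.uu ∧ r ∣ orderOf z

variable {r : ℕ}

theorem r_facts (hr : r.Prime) (hru : r ∣ S.uu) :
    r ≠ 2 ∧ r ≠ 3 ∧ ¬ r ∣ S.q ∧ ¬ r ∣ S.q - 1 ∧ ¬ r ∣ S.q + 1 ∧ ¬ r ∣ 8 * S.c.e * S.c.f * S.q := by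
  have hq := S.q_ge
  have h3 : 3 ∣ S.q := by rw [q, S.hq]; exact dvd_pow_self 3 (by omega)
  have hu3 : ¬ 3 ∣ S.uu := by
    unfold uu
    have : 3 ∣ S.q * (S.q - 1) := h3.mul_right _
    omega
  have h2 : ¬ 2 ∣ S.uu := by
    unfold uu
    have : 2 ∣ S.q * (S.q - 1) := (Nat.even_mul_pred_self S.q).two_dvd
    omega
  have r2 : r ≠ 2 := fun e => h2 (e ▸ hru)
  have r3 : r ≠ 3 := fun e => hu3 (e ▸ hru)
  have rq : ¬ r ∣ S.q := fun h => by
    have h1 : r ∣ S.q * (S.q - 1) := h.mul_right _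
    exact hr.one_lt.ne' (Nat.dvd_one.1 ((Nat.dvd_add_right h1).1 hru))
  have rm : ¬ r ∣ S.q - 1 := fun h => by
    have h1 : r ∣ S.q * (S.q - 1) := h.mul_left _
    exact hr.one_lt.ne' (Nat.dvd_one.1 ((Nat.dvd_add_right h1).1 hru))
  have rp : ¬ r ∣ S.q + 1 := fun h => by
    refine r3 ((Nat.prime_dvd_prime_iff_eq hr Nat.prime_three).1 ?_)
    zify at h hru ⊢
    rw [S.uu_int] at hru
    have h3' := dvd_sub hru (h.mul_right ((S.q : ℤ) - 2))
    rwa [show (S.q : ℤ) ^ 2 - S.q + 1 - ((S.q : ℤ) + 1) * (S.q - 2) = 3 by ring] at h3'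
  refine ⟨r2, r3, rq, rm, rp, fun h => ?_⟩
  obtain ⟨-, -, -, he, hf⟩ := S.three_facts
  rcases (Nat.Prime.dvd_mul hr).1 h with h | h
  · have h' : r ∣ (4 * S.c.e) * (2 * S.c.f) := by rwa [show 4 * S.c.e * (2 * S.c.f) = 8 * S.c.e * S.c.f by ring]
    rw [← he, show 2 * S.c.f = S.q - 1 by omega] at h'
    rcases (Nat.Prime.dvd_mul hr).1 h' with h | h
    exacts [rp h, rm h]
  · exact rq h

/-- a good element is conjugate to no element of `C(t)` -/
theorem Good.not_isConj {z g : G} (hz : S.Good z) (hg : g * S.c.t = S.c.t * g) : ¬ IsConj g z := by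
  intro h
  obtain ⟨r, hr, hru, hrz⟩ := hz
  obtain ⟨a, ha⟩ := isConj_iff.1 h
  refine (S.r_facts hr hru).2.2.2.2.2 (hrz.trans ?_)
  rw [← ha, ← MulAut.conj_apply, MulEquiv.orderOf_eq, show S.q = S.c.q from rfl, ← S.c.card_Ct]
  exact Subgroup.orderOf_dvd_natCard _ (mem_centralizer_singleton_iff.2 hg)

theorem Good.sq_ne {z : G} (hz : S.Good z) : z * z ≠ 1 := by
  intro h
  obtain ⟨r, hr, hru, hrz⟩ := hz
  exact (S.r_facts hr hru).1 ((Nat.prime_dvd_prime_iff_eq hr Nat.prime_two).1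
    (hrz.trans (orderOf_dvd_of_pow_eq_one (by rw [pow_two, h]))))

end Setup

end CfsgLib.Recog.ReeType
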