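import Cfsg.Agent.Lib.Recog.Walter.List
import Cfsg.Agent.Lib.Recog.ReeType.Real
import Cfsg.Agent.Lib.Recog.JankoThompson.Ward.BorelMain
import Mathlib.LinearAlgebra.Projectivization.Action
import Mathlib.GroupTheory.GroupAction.MultipleTransitivity

/-!
Owner: helper17. The doubly transitive action of a group of Ree type, and S4272 from the list of Walter.

* `exists_borel`: the Sylow 3-normalizer of a group of Ree type;
* `two_transitive_borel`: doubly transitive on its `q³ + 1` cosets;
* `exists_two_transitive`, `order_of_no_two_transitive`: every group of the list but `J₁` has a faithful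
  doubly transitive action.
-/

set_option autoImplicit false
set_option linter.all false

namespace CfsgLib.Recog.ReeType

open Subgroup CfsgLib.Recog.JankoThompson

universe u v

variable {G : Type u} [Group G] [Finite G]

/-- Existence of a doubly transitive faithful action on a set in `Type`. -/
def HasTwoTransitive (G : Type u) [Group G] : Prop :=
  ∃ (Ω : Type) (_ : Fintype Ω) (_ : MulAction G Ω), FaithfulSMul G Ω ∧ MulAction.IsMultiplyPretransitive G Ω 2

theorem Setup.exists_borel {F : Type v} [Field F] [Fintype F] (S : Setup G F) :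
    Nonempty (BorelData G S.c.q S.c.t) := by
  refine S.c.exists_borel S.T S.hq S.q_mod S.hcard (fun x z r hr r2 r3 hx hz e => ?_)
    fun D hD a b ha hb hne hab hna hnb => S.no_four hD ha hb hab hne.symm
      (fun x hx => (mem_normalizer_iff.1 hna x).1 hx) (fun x hx => (mem_normalizer_iff.1 hnb x).1 hx)
  have hz1 := S.three_free S.cDeg hr r2 r3 hx ⟨1, by rw [hz, pow_one]⟩ e.symm
  rw [hz1, orderOf_one] at hz
  omega

/-- A group permuting a finite set of any universe acts on some `Fin n`. -/
theorem hasTwoTransitive_of (G : Type u) [Group G] {X : Type v} [Finite X] [MulAction G X] [FaithfulSMul G X]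
    (h : MulAction.IsMultiplyPretransitive G X 2) : HasTwoTransitive G := by
  let e := Finite.equivFin X
  letI : MulAction G (Fin (Nat.card X)) :=
    { smul := fun g i => e (g • e.symm i)
      one_smul := fun i => by show e ((1 : G) • e.symm i) = i; rw [one_smul, Equiv.apply_symm_apply]
      mul_smul := fun g k i => by
        show e ((g * k) • e.symm i) = e (g • e.symm (e (k • e.symm i)))
        rw [Equiv.symm_apply_apply, mul_smul] }
  have hs : ∀ (g : G) (i : Fin (Nat.card X)), g • i = e (g • e.symm i) := fun _ _ => rfl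
  refine ⟨Fin (Nat.card X), inferInstance, inferInstance, ⟨fun {g k} hgk => ?_⟩, ?_⟩
  · refine FaithfulSMul.eq_of_smul_eq_smul (α := X) fun x => ?_
    have h1 := hgk (e x)
    rw [hs, hs, Equiv.symm_apply_apply, e.apply_eq_iff_eq] at h1
    exact h1
  · rw [MulAction.is_two_pretransitive_iff] at h ⊢
    intro a b c d hab hcd
    obtain ⟨g, h1, h2⟩ := h (e.symm.injective.ne hab) (e.symm.injective.ne hcd)
    exact ⟨g, by rw [hs, h1, Equiv.apply_symm_apply], by rw [hs, h2, Equiv.apply_symm_apply]⟩

theorem two_transitive_borel {q : ℕ} {t : G} (B : BorelData G q t) :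
    MulAction.IsMultiplyPretransitive G (G ⧸ B.B) 2 := by
  rw [MulAction.is_two_pretransitive_iff]
  have key : ∀ x y : G ⧸ B.B, x ≠ y →
      ∃ g : G, g • ((1 : G) : G ⧸ B.B) = x ∧ g • ((B.w : G) : G ⧸ B.B) = y := by
    intro x y hxy
    obtain ⟨x, rfl⟩ := QuotientGroup.mk_surjective x
    obtain ⟨y, rfl⟩ := QuotientGroup.mk_surjective y
    have hy : x⁻¹ * y ∉ B.B := fun e => hxy (QuotientGroup.eq.2 e)
    obtain ⟨a, ha, hab⟩ := B.cover _ hy
    have haB : a ∈ B.B := B.B_eq ▸ le_normalizer ha
    refine ⟨x * a, ?_, ?_⟩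
    · rw [MulAction.Quotient.smul_mk, smul_eq_mul, mul_one]
      exact QuotientGroup.eq.2 (by rw [mul_inv_rev, inv_mul_cancel_right]; exact inv_mem haB)
    · rw [MulAction.Quotient.smul_mk, smul_eq_mul]
      refine QuotientGroup.eq.2 ?_
      rwa [show (x * a * B.w)⁻¹ * y = (a * B.w)⁻¹ * (x⁻¹ * y) by group]
  intro a b c d hab hcd
  obtain ⟨g, hg1, hg2⟩ := key a b hab
  obtain ⟨k, hk1, hk2⟩ := key c d hcd
  exact ⟨k * g⁻¹, by rw [mul_smul, ← hg1, inv_smul_smul, hk1], by rw [mul_smul, ← hg2, inv_smul_smul, hk2]⟩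

theorem faithful_borel [IsSimpleGroup G] {q : ℕ} {t : G} (B : BorelData G q t) :
    FaithfulSMul G (G ⧸ B.B) := by
  have hk : (MulAction.toPermHom G (G ⧸ B.B)).ker = ⊥ := by
    refine (IsSimpleGroup.eq_bot_or_eq_top_of_normal _ inferInstance).resolve_right fun e => B.w_not ?_
    have h1 : MulAction.toPermHom G (G ⧸ B.B) B.w = 1 := MonoidHom.mem_ker.1 (e ▸ mem_top B.w)
    have h2 := Equiv.ext_iff.1 h1 ((1 : G) : G ⧸ B.B)
    simp only [MulAction.toPermHom_apply, MulAction.toPerm_apply, Equiv.Perm.one_apply, MulAction.Quotient.smul_mk,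
      smul_eq_mul, mul_one] at h2
    simpa using QuotientGroup.eq.1 h2.symm
  exact ⟨fun {g k} hgk => (MonoidHom.ker_eq_bot_iff _).1 hk (Equiv.ext hgk)⟩

theorem hasTwoTransitive_psl {F : Type} [Field F] [Fintype F]
    (e : G ≃* Matrix.ProjectiveSpecialLinearGroup (Fin 2) F) : HasTwoTransitive G := by
  classical
  letI : MulAction G (Projectivization F (Fin 2 → F)) := MulAction.compHom _ e.toMonoidHom
  haveI : FaithfulSMul G (Projectivization F (Fin 2 → F)) :=
    ⟨fun {g k} hgk => e.injective (FaithfulSMul.eq_of_smul_eq_smul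
      (M := Matrix.ProjectiveSpecialLinearGroup (Fin 2) F) (α := Projectivization F (Fin 2 → F)) fun x => hgk x)⟩
  refine hasTwoTransitive_of G (X := Projectivization F (Fin 2 → F)) ?_
  have h2 : MulAction.IsMultiplyPretransitive (Matrix.SpecialLinearGroup (Fin 2) F)
      (Projectivization F (Fin 2 → F)) 2 := inferInstance
  rw [MulAction.is_two_pretransitive_iff] at h2 ⊢
  intro a b c d hab hcd
  obtain ⟨g, h1, h2⟩ := h2 hab hcd
  refine ⟨e.symm (g : Matrix.ProjectiveSpecialLinearGroup (Fin 2) F), ?_, ?_⟩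
  · show e (e.symm _) • a = c
    rw [MulEquiv.apply_symm_apply, Matrix.ProjectiveSpecialLinearGroup.smul_proj_mk, h1]
  · show e (e.symm _) • b = d
    rw [MulEquiv.apply_symm_apply, Matrix.ProjectiveSpecialLinearGroup.smul_proj_mk, h2]

theorem hasTwoTransitive_ree [IsSimpleGroup G] {F : Type} [Field F] [Fintype F]
    (d : CfsgLib.LocalEven.GoldS.Ctx G F) : HasTwoTransitive G := by
  obtain ⟨S⟩ := exists_setup d
  obtain ⟨B⟩ := S.exists_borel
  haveI := faithful_borel B
  exact hasTwoTransitive_of G (two_transitive_borel B)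

/-- Every group of the list but `J₁` has a faithful doubly transitive action. -/
theorem exists_two_transitive (hW : CfsgLib.Walter.WalterList.{u}) [IsSimpleGroup G]
    (hG : ¬ IsMulCommutative G) (hA : CfsgLib.AbelianSolvCent.AbSylow G) :
    HasTwoTransitive G ∨ Cfsg.IsJ1 G := by
  rcases hW G hG hA with ⟨n, -, F, iF, iT, -, ⟨e⟩⟩ | ⟨F, iF, iT, -, -, ⟨e⟩⟩ | h | ⟨F, iF, iT, -, ⟨d⟩⟩
  · exact Or.inl (hasTwoTransitive_psl e)
  · exact Or.inl (hasTwoTransitive_psl e)
  · exact Or.inr h
  · exact Or.inl (hasTwoTransitive_ree d)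

/-- **S4272** from the list. -/
theorem order_of_no_two_transitive (hW : CfsgLib.Walter.WalterList.{u}) [IsSimpleGroup G]
    (hG : ¬ IsMulCommutative G) (P : Sylow 2 G) (hP : IsMulCommutative (P : Subgroup G))
    (hno : ∀ (Ω : Type) [Fintype Ω] [MulAction G Ω] [FaithfulSMul G Ω],
      ¬ MulAction.IsMultiplyPretransitive G Ω 2) :
    Nat.card G = 175560 := by
  rcases exists_two_transitive hW hG (CfsgLib.AbelianSolvCent.abSylow_of_one P hP) with ⟨Ω, i1, i2, i3, h⟩ | h
  · exact absurd h (hno Ω)
  · exact h.2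

end CfsgLib.Recog.ReeType
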